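import Mathlib
import Cfsg.Agent.S0144

/-!
# Groups with element orders `1, 2, p, q, 2p`, one automorphism class per order

Basic facts and the elementary counting inequalities.
-/

set_option autoImplicit false

namespace CfsgLib.AutOrbits

open Subgroup

variable {G : Type*} [Group G]

/-- The element orders are `1, 2, p, q, 2p`, and elements of equal order are automorphic. -/
structure Spec (G : Type*) [Group G] (p q : ℕ) : Prop where
  hp : p.Prime
  hq : q.Prime
  hp2 : p ≠ 2
  hq2 : q ≠ 2
  hpq : p ≠ q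
  ord : ∀ g : G, g = 1 ∨ orderOf g = 2 ∨ orderOf g = p ∨ orderOf g = q ∨ orderOf g = 2 * p
  exP : ∃ g : G, orderOf g = p
  exQ : ∃ g : G, orderOf g = q
  exPair : ∃ g : G, orderOf g = 2 * p
  aut : ∀ g h : G, orderOf g = orderOf h → ∃ α : MulAut G, α g = h

/-- The centralizer of an element. -/
abbrev cent (g : G) : Subgroup G := Subgroup.centralizer ({g} : Set G)

theorem mem_cent {g x : G} : x ∈ cent g ↔ x * g = g * x :=
  Subgroup.mem_centralizer_singleton_iff

theorem self_mem_cent (g : G) : g ∈ cent g := mem_cent.2 rfl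

theorem map_cent (α : MulAut G) (g : G) : (cent g).map α.toMonoidHom = cent (α g) := by
  ext x
  rw [Subgroup.mem_map, mem_cent]
  constructor
  · rintro ⟨y, hy, rfl⟩
    simp only [MulEquiv.coe_toMonoidHom]
    rw [← map_mul, ← map_mul, mem_cent.1 hy]
  · intro h
    refine ⟨α.symm x, mem_cent.2 (α.injective ?_), by simp⟩
    rw [map_mul, map_mul, α.apply_symm_apply, h]

theorem card_cent_apply (α : MulAut G) (g : G) : Nat.card (cent (α g)) = Nat.card (cent g) := by
  rw [← map_cent α g]
  exact Nat.card_congr ((cent g).equivMapOfInjective _ α.injective).symm.toEquiv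

/-- The number of elements of a given order in the centralizer of `g`. -/
noncomputable def ordCount (g : G) (n : ℕ) : ℕ := Nat.card {x : G // x ∈ cent g ∧ orderOf x = n}

theorem ordCount_apply (α : MulAut G) (g : G) (n : ℕ) : ordCount (α g) n = ordCount g n := by
  refine Nat.card_congr (Equiv.subtypeEquiv α.symm.toEquiv fun x => ?_)
  have e : x ∈ cent (α g) ↔ α.symm x ∈ cent g := by
    rw [← map_cent α g, Subgroup.mem_map]
    exact ⟨fun ⟨y, hy, h⟩ => by simpa [← h] using hy, fun h => ⟨_, h, by simp⟩⟩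
  rw [e]
  simp [MulEquiv.orderOf_eq]

theorem prime_eq_of_dvd_two_mul {p r : ℕ} (hr : r.Prime) (hp : p.Prime) (h : r ∣ 2 * p) :
    r = 2 ∨ r = p :=
  (hr.dvd_mul.1 h).imp ((Nat.prime_dvd_prime_iff_eq hr Nat.prime_two).1)
    ((Nat.prime_dvd_prime_iff_eq hr hp).1)

namespace Spec

variable {p q : ℕ} (S : Spec G p q)
include S

theorem two_lt_p : 2 < p := lt_of_le_of_ne S.hp.two_le (Ne.symm S.hp2)

theorem two_lt_q : 2 < q := lt_of_le_of_ne S.hq.two_le (Ne.symm S.hq2)

theorem odd_p : Odd p := S.hp.odd_of_ne_two S.hp2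

theorem cases_ne_one {g : G} (hg : g ≠ 1) :
    orderOf g = 2 ∨ orderOf g = p ∨ orderOf g = q ∨ orderOf g = 2 * p :=
  (S.ord g).resolve_left hg

theorem q_ne_two_mul : q ≠ 2 * p := fun h => by
  have := Nat.odd_iff.1 (S.hq.odd_of_ne_two S.hq2)
  omega

theorem dvd_prime {r : ℕ} (hr : r.Prime) {g : G} (h : r ∣ orderOf g) : r = 2 ∨ r = p ∨ r = q := by
  rcases eq_or_ne g 1 with rfl | hg
  · rw [orderOf_one, Nat.dvd_one] at h; exact absurd h hr.ne_one
  rcases S.cases_ne_one hg with e | e | e | e <;> rw [e] at h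
  · exact Or.inl ((Nat.prime_dvd_prime_iff_eq hr Nat.prime_two).1 h)
  · exact Or.inr (Or.inl ((Nat.prime_dvd_prime_iff_eq hr S.hp).1 h))
  · exact Or.inr (Or.inr ((Nat.prime_dvd_prime_iff_eq hr S.hq).1 h))
  · rcases prime_eq_of_dvd_two_mul hr S.hp h with e' | e'
    · exact Or.inl e'
    · exact Or.inr (Or.inl e')

/-- An element whose order is divisible by `q` has order `q`. -/
theorem eq_q_of_dvd {g : G} (h : q ∣ orderOf g) : orderOf g = q := by
  rcases eq_or_ne g 1 with rfl | hg
  · rw [orderOf_one, Nat.dvd_one] at h; exact absurd h S.hq.ne_one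
  rcases S.cases_ne_one hg with e | e | e | e
  · rw [e] at h; exact absurd ((Nat.prime_dvd_prime_iff_eq S.hq Nat.prime_two).1 h) S.hq2
  · rw [e] at h; exact absurd ((Nat.prime_dvd_prime_iff_eq S.hq S.hp).1 h).symm S.hpq
  · exact e
  · rw [e] at h
    rcases prime_eq_of_dvd_two_mul S.hq S.hp h with e' | e'
    · exact absurd e' S.hq2
    · exact absurd e'.symm S.hpq

theorem sq_eq_one_of_pow_two {g : G} {k : ℕ} (h : orderOf g = 2 ^ k) : g * g = 1 := by
  rcases eq_or_ne g 1 with rfl | hg
  · simp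
  have h2 : orderOf g = 2 := by
    rcases S.cases_ne_one hg with e | e | e | e
    · exact e
    all_goals exfalso
    · exact S.hp2 ((Nat.prime_dvd_prime_iff_eq S.hp Nat.prime_two).1
        (S.hp.dvd_of_dvd_pow (e ▸ h.dvd : p ∣ 2 ^ k)))
    · exact S.hq2 ((Nat.prime_dvd_prime_iff_eq S.hq Nat.prime_two).1
        (S.hq.dvd_of_dvd_pow (e ▸ h.dvd : q ∣ 2 ^ k)))
    · exact S.hp2 ((Nat.prime_dvd_prime_iff_eq S.hp Nat.prime_two).1
        (S.hp.dvd_of_dvd_pow ((dvd_mul_left p 2).trans (e ▸ h.dvd : 2 * p ∣ 2 ^ k))))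
  rw [← pow_two, ← h2, pow_orderOf_eq_one]

/-- An element of prime order commuting with an element of order `q` has order `q`. -/
theorem not_commute_q {x y : G} (hy : orderOf y = q) {r : ℕ} (hr : r.Prime) (hx : orderOf x = r)
    (hc : Commute x y) : r = q := by
  by_contra hne
  have h := hc.orderOf_mul_eq_mul_orderOf_of_coprime
    (by rw [hx, hy]; exact (Nat.coprime_primes hr S.hq).2 hne)
  rw [hx, hy] at h
  have := S.eq_q_of_dvd (h ▸ dvd_mul_left q r : q ∣ orderOf (x * y))
  rw [this] at h
  exact hr.ne_one (mul_eq_right₀ S.hq.ne_zero |>.1 h.symm)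

/-- The centralizer of an element of order `q` is a `q`-group. -/
theorem isPGroup_cent_q [Finite G] {y : G} (hy : orderOf y = q) : IsPGroup q (cent y) := by
  haveI := Fact.mk S.hq
  refine IsPGroup.iff_orderOf.2 fun c => ⟨_, Nat.eq_prime_pow_of_unique_prime_dvd
    (orderOf_pos c).ne' fun {r} hr hd => ?_⟩
  rw [← Subgroup.orderOf_coe] at hd
  refine S.not_commute_q hy hr (x := (c : G) ^ (orderOf (c : G) / r))
    (orderOf_pow_orderOf_div (orderOf_pos _).ne' hd) ?_
  exact Commute.pow_left (mem_cent.1 c.2) _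

/-- An element of prime order is central in some Sylow subgroup. -/
theorem exists_sylow_le_cent [Finite G] {x : G} {r : ℕ} [hr : Fact r.Prime] (hx : orderOf x = r) :
    ∃ P : Sylow r G, (P : Subgroup G) ≤ cent x := by
  obtain ⟨P0⟩ : Nonempty (Sylow r G) := inferInstance
  have hne : (P0 : Subgroup G) ≠ ⊥ :=
    P0.ne_bot_of_dvd_card (hx ▸ orderOf_dvd_natCard x)
  haveI : Nontrivial (P0 : Subgroup G) := (Subgroup.nontrivial_iff_ne_bot _).2 hne
  haveI := P0.isPGroup'.center_nontrivial
  obtain ⟨z, hz⟩ := exists_prime_orderOf_dvd_card' r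
    (G := Subgroup.center (P0 : Subgroup G)) (by
      obtain ⟨n, hn⟩ := (P0.isPGroup'.to_subgroup (Subgroup.center _)).exists_card_eq
      rcases n with _ | n
      · rw [pow_zero] at hn
        have := Finite.one_lt_card (α := Subgroup.center (P0 : Subgroup G))
        omega
      · exact hn ▸ dvd_pow_self r (Nat.succ_ne_zero n))
  have hzo : orderOf ((z : (P0 : Subgroup G)) : G) = orderOf x := by
    rw [Subgroup.orderOf_coe, Subgroup.orderOf_coe, hz, hx]
  obtain ⟨α, hα⟩ := S.aut _ _ hzo
  have hle : (P0 : Subgroup G) ≤ cent ((z : (P0 : Subgroup G)) : G) := fun w hw =>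
    mem_cent.2 (congrArg Subtype.val (Subgroup.mem_center_iff.1 z.2 ⟨w, hw⟩))
  refine ⟨Sylow.ofCard ((P0 : Subgroup G).map α.toMonoidHom) ?_, ?_⟩
  · rw [← Nat.card_congr ((P0 : Subgroup G).equivMapOfInjective _ α.injective).toEquiv,
      P0.card_eq_multiplicity]
  · rw [Sylow.coe_ofCard]
    calc (P0 : Subgroup G).map α.toMonoidHom
        ≤ (cent ((z : (P0 : Subgroup G)) : G)).map α.toMonoidHom := Subgroup.map_mono hle
      _ = cent x := by rw [map_cent, hα]

/-- The centralizer of an element of order `q` is a Sylow subgroup. -/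
theorem exists_sylow_eq_cent [Finite G] {y : G} (hy : orderOf y = q) :
    ∃ Q : Sylow q G, (Q : Subgroup G) = cent y := by
  haveI := Fact.mk S.hq
  obtain ⟨Q, hQ⟩ := S.exists_sylow_le_cent hy
  exact ⟨Q, (Q.3 (S.isPGroup_cent_q hy) hQ).symm⟩

theorem card_q_mul_le [Finite G] (Q : Sylow q G) :
    Nat.card {g : G // orderOf g = q} * Nat.card (Subgroup.normalizer ((Q : Subgroup G) : Set G)) ≤
      Nat.card G * (Nat.card (Subgroup.center (Q : Subgroup G)) - 1) := by
  classical
  haveI := Fact.mk S.hq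
  choose R hR using fun y : {g : G // orderOf g = q} => S.exists_sylow_eq_cent y.2
  let f : {g : G // orderOf g = q} →
      Σ R : Sylow q G, {z : Subgroup.center (R : Subgroup G) // z ≠ 1} := fun y =>
    ⟨R y, ⟨⟨⟨y.1, by rw [hR y]; exact self_mem_cent _⟩, Subgroup.mem_center_iff.2 fun w =>
      Subtype.ext (mem_cent.1 ((hR y).le w.2))⟩, fun h => by
        have := congrArg (fun z : Subgroup.center (R y : Subgroup G) => ((z : (R y : Subgroup G)) : G)) h
        simp only [OneMemClass.coe_one] at this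
        have h2 := y.2
        rw [this, orderOf_one] at h2
        exact S.hq.ne_one h2.symm⟩⟩
  have hf : Function.Injective f := fun a b h => by
    have := congrArg (fun s : Σ R : Sylow q G, {z : Subgroup.center (R : Subgroup G) // z ≠ 1} =>
      (((s.2 : Subgroup.center (s.1 : Subgroup G)) : (s.1 : Subgroup G)) : G)) h
    exact Subtype.ext this
  have hle := Nat.card_le_card_of_injective f hf
  haveI := Fintype.ofFinite (Sylow q G)
  rw [Nat.card_sigma] at hle
  have hc : ∀ R : Sylow q G, Nat.card {z : Subgroup.center (R : Subgroup G) // z ≠ 1} =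
      Nat.card (Subgroup.center (Q : Subgroup G)) - 1 := fun R => by
    haveI := Fintype.ofFinite (Subgroup.center (R : Subgroup G))
    rw [Nat.card_eq_fintype_card, Fintype.card_subtype_compl, Fintype.card_subtype_eq,
      ← Nat.card_eq_fintype_card, Nat.card_congr (Subgroup.centerCongr (R.equiv Q)).toEquiv]
  rw [Finset.sum_congr rfl (fun R _ => hc R), Finset.sum_const, smul_eq_mul, Finset.card_univ,
    ← Nat.card_eq_fintype_card,
    show Nat.card (Sylow q G) = (Subgroup.normalizer ((Q : Subgroup G) : Set G)).index from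
      Q.card_eq_index_normalizer] at hle
  calc _ ≤ _ * Nat.card (Subgroup.normalizer ((Q : Subgroup G) : Set G)) :=
        Nat.mul_le_mul_right _ hle
    _ = _ := by
      rw [← Subgroup.card_mul_index (Subgroup.normalizer ((Q : Subgroup G) : Set G))]
      ring

end Spec

end CfsgLib.AutOrbits
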