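import Cfsg.Agent.Lib.AutOrbits.TwoPart

/-!
# Counting elements by order
-/

set_option autoImplicit false
set_option linter.style.haveILetI false

namespace CfsgLib.AutOrbits

open Subgroup

variable {G : Type*} [Group G] [Finite G]

/-- The number of solutions of `x ^ p = 1` in the centralizer of `t`. -/
noncomputable def solCount (t : G) (p : ℕ) : ℕ := Nat.card {x : G // x ∈ cent t ∧ x ^ p = 1}

omit [Finite G] in
theorem solCount_apply (α : MulAut G) (t : G) (p : ℕ) : solCount (α t) p = solCount t p := by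
  refine Nat.card_congr (Equiv.subtypeEquiv α.symm.toEquiv fun x => ?_)
  have e : x ∈ cent (α t) ↔ α.symm x ∈ cent t := by
    rw [← map_cent α t, Subgroup.mem_map]
    exact ⟨fun ⟨y, hy, h⟩ => by simpa [← h] using hy, fun h => ⟨_, h, by simp⟩⟩
  rw [e]
  simp [← map_pow]

namespace Spec

variable {p q : ℕ} (S : Spec G p q)
include S

theorem card_le : Nat.card G ≤ 1 + Nat.card {g : G // orderOf g = 2 ∨ orderOf g = 2 * p} +
    Nat.card {g : G // orderOf g = p} + Nat.card {g : G // orderOf g = q} := by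
  classical
  haveI := Fintype.ofFinite G
  simp only [Nat.card_eq_fintype_card, Fintype.card_subtype]
  rw [← Finset.card_univ]
  refine le_trans (Finset.card_le_card (t := ({1} : Finset G) ∪
    ({g : G | orderOf g = 2 ∨ orderOf g = 2 * p} : Finset G) ∪ ({g : G | orderOf g = p} : Finset G) ∪
      ({g : G | orderOf g = q} : Finset G)) fun g _ => ?_) ?_
  · rcases S.ord g with e | e | e | e | e <;> simp [e]
  · refine (Finset.card_union_le _ _).trans (Nat.add_le_add_right ?_ _)
    refine (Finset.card_union_le _ _).trans (Nat.add_le_add_right ?_ _)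
    refine (Finset.card_union_le _ _).trans ?_
    simp

/-- Elements of order `2` or `2p` are products of an involution and a commuting `p`-element. -/
theorem card_even_le {t : G} (ht : orderOf t = 2) :
    Nat.card {g : G // orderOf g = 2 ∨ orderOf g = 2 * p} ≤
      Nat.card {g : G // orderOf g = 2} * solCount t p := by
  classical
  let f : (Σ u : {g : G // orderOf g = 2}, {x : G // x ∈ cent u.1 ∧ x ^ p = 1}) → G :=
    fun s => s.1.1 * s.2.1
  have hsub : ∀ g : {g : G // orderOf g = 2 ∨ orderOf g = 2 * p}, ∃ s, f s = g.1 := by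
    rintro ⟨g, hg | hg⟩
    · exact ⟨⟨⟨g, hg⟩, 1, one_mem _, one_pow p⟩, mul_one g⟩
    · obtain ⟨j, hj⟩ : ∃ j, p + 1 = 2 * j := by
        obtain ⟨k, hk⟩ := S.odd_p
        exact ⟨k + 1, by omega⟩
      have h2 : orderOf (g ^ p) = 2 := by
        rw [orderOf_pow_of_dvd S.hp.ne_zero (hg ▸ dvd_mul_left p 2), hg, Nat.mul_div_left _ S.hp.pos]
      refine ⟨⟨⟨g ^ p, h2⟩, g ^ (p + 1), mem_cent.2 (by rw [← pow_add, ← pow_add, add_comm]), ?_⟩, ?_⟩
      · rw [← pow_mul, hj, show 2 * j * p = orderOf g * j by rw [hg]; ring, pow_mul,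
          pow_orderOf_eq_one, one_pow]
      · change g ^ p * g ^ (p + 1) = g
        rw [← pow_add, show p + (p + 1) = orderOf g + 1 by omega, pow_succ, pow_orderOf_eq_one,
          one_mul]
  choose s hs using hsub
  have hs' : Function.Injective s := fun a b h => Subtype.ext (by rw [← hs a, ← hs b, h])
  refine (Nat.card_le_card_of_injective s hs').trans (le_of_eq ?_)
  haveI := Fintype.ofFinite {g : G // orderOf g = 2}
  rw [Nat.card_sigma, Nat.card_eq_fintype_card (α := {g : G // orderOf g = 2}), ← Finset.card_univ,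
    ← smul_eq_mul, ← Finset.sum_const]
  refine Finset.sum_congr rfl fun u _ => ?_
  obtain ⟨α, hα⟩ := S.aut t u.1 (ht.trans u.2.symm)
  rw [← solCount_apply α t p, hα]
  rfl

/-- Each element of order `p` and each involution commuting with it give an element of order `2p`. -/
theorem card_p_mul_le {x : G} (hx : orderOf x = p) :
    Nat.card {g : G // orderOf g = p} * ordCount x 2 + Nat.card {g : G // orderOf g = 2} ≤
      Nat.card {g : G // orderOf g = 2 ∨ orderOf g = 2 * p} := by
  classical
  let f : (Σ u : {g : G // orderOf g = p}, {s : G // s ∈ cent u.1 ∧ orderOf s = 2}) ⊕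
      {g : G // orderOf g = 2} → {g : G // orderOf g = 2 ∨ orderOf g = 2 * p} := fun z => match z with
    | Sum.inl z => ⟨z.2.1 * z.1.1, Or.inr (by
        rw [(show Commute z.2.1 z.1.1 from mem_cent.1 z.2.2.1).orderOf_mul_eq_mul_orderOf_of_coprime,
          z.2.2.2, z.1.2]
        rw [z.2.2.2, z.1.2]
        exact (Nat.coprime_primes Nat.prime_two S.hp).2 (Ne.symm S.hp2))⟩
    | Sum.inr g => ⟨g.1, Or.inl g.2⟩
  have key : ∀ z : Σ u : {g : G // orderOf g = p}, {s : G // s ∈ cent u.1 ∧ orderOf s = 2},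
      (z.2.1 * z.1.1) ^ p = z.2.1 := by
    rintro ⟨u, s⟩
    have hc : Commute s.1 u.1 := mem_cent.1 s.2.1
    obtain ⟨k, hk⟩ := S.odd_p
    rw [hc.mul_pow, orderOf_dvd_iff_pow_eq_one.1 (u.2.dvd : orderOf u.1 ∣ p), mul_one,
      ← pow_mod_orderOf s.1 p, s.2.2, Nat.odd_iff.1 ⟨k, hk⟩, pow_one]
  have hf : Function.Injective f := by
    rintro (⟨u, s⟩ | g) (⟨u', s'⟩ | g') h <;> have h' := congrArg Subtype.val h <;>
      simp only [f] at h'
    · have hs : s.1 = s'.1 := by rw [← key ⟨u, s⟩, ← key ⟨u', s'⟩, h']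
      obtain rfl : u = u' := Subtype.ext (mul_left_cancel (hs ▸ h'))
      obtain rfl : s = s' := Subtype.ext hs
      rfl
    · exfalso
      have hc : Commute s.1 u.1 := mem_cent.1 s.2.1
      have := hc.orderOf_mul_eq_mul_orderOf_of_coprime
        (by rw [s.2.2, u.2]; exact (Nat.coprime_primes Nat.prime_two S.hp).2 (Ne.symm S.hp2))
      rw [h', g'.2, s.2.2, u.2] at this
      have := S.two_lt_p
      omega
    · exfalso
      have hc : Commute s'.1 u'.1 := mem_cent.1 s'.2.1
      have := hc.orderOf_mul_eq_mul_orderOf_of_coprime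
        (by rw [s'.2.2, u'.2]; exact (Nat.coprime_primes Nat.prime_two S.hp).2 (Ne.symm S.hp2))
      rw [← h', g.2, s'.2.2, u'.2] at this
      have := S.two_lt_p
      omega
    · exact congrArg Sum.inr (Subtype.ext h')
  refine le_trans (le_of_eq ?_) (Nat.card_le_card_of_injective f hf)
  haveI := Fintype.ofFinite {g : G // orderOf g = p}
  rw [Nat.card_sum, Nat.card_sigma, Nat.card_eq_fintype_card (α := {g : G // orderOf g = p}),
    ← Finset.card_univ, ← smul_eq_mul, ← Finset.sum_const]
  congr 1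
  refine Finset.sum_congr rfl fun u _ => ?_
  obtain ⟨α, hα⟩ := S.aut x u.1 (hx.trans u.2.symm)
  rw [← ordCount_apply α x 2, hα]
  rfl

/-- Every element of order `p` commutes with some involution. -/
theorem ordCount_pos {x : G} (hx : orderOf x = p) : 0 < ordCount x 2 := by
  obtain ⟨g, hg⟩ := S.exPair
  have h2 : orderOf (g ^ 2) = p := by
    rw [orderOf_pow_of_dvd two_ne_zero (hg ▸ dvd_mul_right 2 p), hg, Nat.mul_div_cancel_left _ two_pos]
  obtain ⟨α, hα⟩ := S.aut (g ^ 2) x (h2.trans hx.symm)
  rw [← hα, ordCount_apply]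
  have : Nonempty {s : G // s ∈ cent (g ^ 2) ∧ orderOf s = 2} :=
    ⟨⟨g ^ p, mem_cent.2 (by rw [← pow_add, ← pow_add, add_comm]), by
      rw [orderOf_pow_of_dvd S.hp.ne_zero (hg ▸ dvd_mul_left p 2), hg, Nat.mul_div_left _ S.hp.pos]⟩⟩
  exact Nat.card_pos

/-- If a core is non-trivial and `T` has order at least `8`, some element of order `p` commutes with
three involutions. -/
theorem three_le_ordCount (T : Sylow 2 G) (h8 : 8 ≤ Nat.card (T : Subgroup G)) {t : G}
    (ht : t ∈ (T : Subgroup G)) (ht1 : t ≠ 1) (hA : coreOf t ≠ ⊥) {x : G} (hx : orderOf x = p) :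
    3 ≤ ordCount x 2 := by
  classical
  haveI := Fintype.ofFinite G
  have ht2 := S.orderOf_mem_sylow T ht ht1
  obtain ⟨b, hb, hb'⟩ : ∃ b ∈ (T : Subgroup G), b ∉ ({1, t} : Finset G) := by
    by_contra hno
    push Not at hno
    have : Nat.card (T : Subgroup G) ≤ ({1, t} : Finset G).card := by
      rw [← Nat.card_eq_finsetCard]
      exact Nat.card_le_card_of_injective (fun a => (⟨a.1, hno a.1 a.2⟩ : ({1, t} : Finset G)))
        fun a c h => by have := congrArg Subtype.val h; exact Subtype.ext this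
    have := Finset.card_le_two (a := (1 : G)) (b := t)
    omega
  obtain ⟨c, hc, hc'⟩ : ∃ c ∈ (T : Subgroup G), c ∉ ({1, t, b, t * b} : Finset G) := by
    by_contra hno
    push Not at hno
    have : Nat.card (T : Subgroup G) ≤ ({1, t, b, t * b} : Finset G).card := by
      rw [← Nat.card_eq_finsetCard]
      exact Nat.card_le_card_of_injective (fun a => (⟨a.1, hno a.1 a.2⟩ : ({1, t, b, t * b} : Finset G)))
        fun a d h => by have := congrArg Subtype.val h; exact Subtype.ext this
    have := Finset.card_le_four (a := (1 : G)) (b := t) (c := b) (d := t * b)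
    omega
  simp only [Finset.mem_insert, Finset.mem_singleton, not_or] at hb' hc'
  set A := coreOf t with hAdef
  have hn : (T : Subgroup G) ≤ Subgroup.normalizer (A : Set G) := fun a ha =>
    Subgroup.mem_normalizer_iff.2 fun w => ⟨fun hw => conj_mem_coreOf (S.sylow_le_cent T ht ha) hw,
      fun hw => by
        have h := conj_mem_coreOf (S.sylow_le_cent T ht ((T : Subgroup G).inv_mem ha)) hw
        simpa [mul_assoc] using h⟩
  let act : (T : Subgroup G) →* MulAut A :=
    { toFun := fun a =>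
        { toFun := fun w => ⟨a.1 * w * a.1⁻¹, (Subgroup.mem_normalizer_iff.1 (hn a.2) w).1 w.2⟩
          invFun := fun w => ⟨a.1⁻¹ * w * a.1, by
            have := (Subgroup.mem_normalizer_iff.1 (inv_mem (hn a.2)) w).1 w.2
            simpa using this⟩
          left_inv := fun w => Subtype.ext (by simp [mul_assoc])
          right_inv := fun w => Subtype.ext (by simp [mul_assoc])
          map_mul' := fun v w => Subtype.ext (by simp [mul_assoc]) }
      map_one' := by ext w; simp
      map_mul' := fun a d => by ext w; simp [MulAut.mul_apply, mul_assoc] }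
  haveI : Nontrivial A := (Subgroup.nontrivial_iff_ne_bot _).2 hA
  have hsq : ∀ a : (T : Subgroup G), act a * act a = 1 := fun a => by
    rw [← map_mul, show a * a = 1 from Subtype.ext (S.sylow_sq T a.2), map_one]
  obtain ⟨d, hd, y, hy1, hy⟩ := exists_fixed_of_four (odd_coreOf t) (hsq ⟨b, hb⟩) (hsq ⟨c, hc⟩)
    (by rw [← map_mul]; exact hsq _)
  obtain ⟨e, he, het, he1, hfix⟩ : ∃ e : G, e ∈ (T : Subgroup G) ∧ e ≠ t ∧ e ≠ 1 ∧
      e * y.1 * e⁻¹ = y.1 := by
    rcases hd with rfl | rfl | rfl
    · exact ⟨b, hb, hb'.2, hb'.1, congrArg Subtype.val hy⟩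
    · exact ⟨c, hc, hc'.2.1, hc'.1, congrArg Subtype.val hy⟩
    · refine ⟨b * c, mul_mem hb hc, fun h => hc'.2.2.2 ?_, fun h => hc'.2.2.1 ?_, ?_⟩
      · calc c = b * b * c := by rw [S.sylow_sq T hb, one_mul]
          _ = b * t := by rw [mul_assoc, h]
          _ = t * b := S.sylow_comm T hb ht
      · calc c = b * b * c := by rw [S.sylow_sq T hb, one_mul]
          _ = b := by rw [mul_assoc, h, mul_one]
      · rw [← map_mul] at hy
        exact congrArg Subtype.val hy
  have hyC : (y : G) ∈ cent t := coreOf_le t y.2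
  have hyne : (y : G) ≠ 1 := fun h => hy1 (Subtype.ext h)
  have hyodd : Odd (orderOf (y : G)) :=
    (odd_coreOf t).of_dvd_nat (Subgroup.orderOf_dvd_natCard _ y.2)
  obtain ⟨α, hα⟩ := S.aut (y : G) x ((S.orderOf_odd_cent ht2 hyC hyne hyodd).trans hx.symm)
  rw [← hα, ordCount_apply]
  have hec : e ∈ cent (y : G) := mem_cent.2 (mul_inv_eq_iff_eq_mul.1 hfix)
  have htc : t ∈ cent (y : G) := mem_cent.2 (mem_cent.1 hyC).symm
  have hm : ∀ s ∈ ({t, e, t * e} : Finset G), s ∈ cent (y : G) ∧ orderOf s = 2 := by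
    intro s hs
    simp only [Finset.mem_insert, Finset.mem_singleton] at hs
    rcases hs with rfl | rfl | rfl
    · exact ⟨htc, ht2⟩
    · exact ⟨hec, S.orderOf_mem_sylow T he he1⟩
    · refine ⟨mul_mem htc hec, S.orderOf_mem_sylow T (mul_mem ht he) fun h => het ?_⟩
      rw [← inv_eq_of_mul_eq_one_right h, inv_eq_of_mul_eq_one_right (S.sylow_sq T ht)]
  have h3 : ({t, e, t * e} : Finset G).card = 3 := by
    rw [Finset.card_eq_three]
    refine ⟨t, e, t * e, Ne.symm het, ?_, ?_, rfl⟩
    · intro h; exact he1 (left_eq_mul.1 h)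
    · intro h; exact ht1 (right_eq_mul.1 h)
  rw [← h3, ← Nat.card_eq_finsetCard]
  exact Nat.card_le_card_of_injective
    (fun s => (⟨s.1, hm s.1 s.2⟩ : {s : G // s ∈ cent (y : G) ∧ orderOf s = 2}))
    fun a d h => by have := congrArg Subtype.val h; exact Subtype.ext this

end Spec

end CfsgLib.AutOrbits
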