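import Mathlib

/-!
# Automorphisms without fixed points

Elementary product identities: a group of exponent `2` admits no fixed-point-free action of a
non-cyclic group of order `q²`, nor of a Frobenius group whose kernel has no fixed points.
-/

set_option autoImplicit false

namespace CfsgLib.AutOrbits

open Finset

variable {V : Type*} [CommGroup V]

theorem prod_pow_fixed {f : MulAut V} {q : ℕ} (hq : f ^ q = 1) (v : V) :
    f (∏ i ∈ range q, (f ^ i) v) = ∏ i ∈ range q, (f ^ i) v := by
  rw [map_prod]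
  have h1 : ∀ i, f ((f ^ i) v) = (f ^ (i + 1)) v := fun i => by rw [pow_succ', MulAut.mul_apply]
  simp only [h1]
  have e := prod_range_succ (fun i => (f ^ i) v) q
  rw [prod_range_succ' (fun i => (f ^ i) v) q, hq, pow_zero] at e
  exact mul_right_cancel e

theorem prod_pow_eq_one {f : MulAut V} {q : ℕ} (hq : f ^ q = 1) (hf : ∀ v, f v = v → v = 1)
    (v : V) : ∏ i ∈ range q, (f ^ i) v = 1 :=
  hf _ (prod_pow_fixed hq v)

theorem fpf_pow {f : MulAut V} {q j : ℕ} (hq : q.Prime) (hf : f ^ q = 1) (hj0 : j ≠ 0) (hj : j < q)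
    (hfix : ∀ v, f v = v → v = 1) (v : V) (hv : (f ^ j) v = v) : v = 1 := by
  refine hfix v ?_
  have hmem : f ^ j ∈ MulAction.stabilizer (MulAut V) v := hv
  have hc : j.Coprime q := ((Nat.Prime.coprime_iff_not_dvd hq).2 fun h =>
    absurd (Nat.le_of_dvd (Nat.pos_of_ne_zero hj0) h) (not_le.2 hj)).symm
  have hc' : (orderOf f).Coprime j := (hc.coprime_dvd_right (orderOf_dvd_of_pow_eq_one hf)).symm
  obtain ⟨m, hm⟩ := exists_pow_eq_self_of_coprime hc'.symm
  have := (MulAction.stabilizer (MulAut V) v).pow_mem hmem m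
  rw [hm] at this
  exact this

/-- Two commuting automorphisms of order dividing `q` whose products `a * b ^ i` and `b` have no
fixed points force exponent `q`. -/
theorem pow_eq_one_of_lines {a b : MulAut V} {q : ℕ} (hq : q.Prime) (hab : Commute a b)
    (ha : a ^ q = 1) (hb : b ^ q = 1) (hbf : ∀ v, b v = v → v = 1)
    (habf : ∀ i < q, ∀ v, (a * b ^ i) v = v → v = 1) (v : V) : v ^ q = 1 := by
  have h1 : ∏ i ∈ range q, ∏ j ∈ range q, ((a * b ^ i) ^ j) v = 1 := by
    refine prod_eq_one fun i hi => prod_pow_eq_one ?_ (habf i (mem_range.1 hi)) v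
    rw [(hab.pow_right i).mul_pow, ha, ← pow_mul, mul_comm, pow_mul, hb, one_pow, one_mul]
  rw [prod_comm] at h1
  have h2 : ∀ j ∈ range q, j ≠ 0 → ∏ i ∈ range q, ((a * b ^ i) ^ j) v = 1 := by
    intro j hj hj0
    have e : ∀ i, ((a * b ^ i) ^ j) v = (a ^ j) (((b ^ j) ^ i) v) := fun i => by
      rw [(hab.pow_right i).mul_pow, MulAut.mul_apply, ← pow_mul, ← pow_mul, mul_comm]
    simp only [e]
    rw [← map_prod, prod_pow_eq_one ?_ (fpf_pow hq hb hj0 (mem_range.1 hj) hbf) v, map_one]
    rw [← pow_mul, mul_comm, pow_mul, hb, one_pow]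
  rw [prod_eq_single 0 (fun j hj hj0 => h2 j hj hj0)
    (fun h => absurd (mem_range.2 hq.pos) h)] at h1
  simpa using h1

/-- A Frobenius group of automorphisms whose kernel and complement have no fixed points forces the
exponent to divide the order of the kernel. -/
theorem pow_eq_one_of_frobenius {P : Subgroup (MulAut V)} [Finite P] {y : MulAut V} {q : ℕ}
    (hq : q.Prime) (hy : y ^ q = 1) (hyf : ∀ v, y v = v → v = 1)
    (hPf : ∀ v, (∀ x ∈ P, x v = v) → v = 1) (hnorm : ∀ x ∈ P, y * x * y⁻¹ ∈ P)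
    (hcomm : ∀ j, j ≠ 0 → j < q → ∀ x ∈ P, Commute x (y ^ j) → x = 1) (v : V) :
    v ^ Nat.card P = 1 := by
  classical
  haveI := Fintype.ofFinite P
  have h1 : ∏ x : P, ∏ j ∈ range q, (((x : MulAut V) * y * (x : MulAut V)⁻¹) ^ j) v = 1 := by
    refine prod_eq_one fun x _ => prod_pow_eq_one ?_ ?_ v
    · rw [conj_pow, hy, mul_one, mul_inv_cancel]
    · intro w hw
      rw [MulAut.mul_apply, MulAut.mul_apply] at hw
      have h := hyf ((x : MulAut V)⁻¹ w) (by
        apply (x : MulAut V).injective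
        rw [hw, MulAut.apply_inv_self])
      simpa using congrArg (x : MulAut V) h
  rw [prod_comm] at h1
  have hn : ∀ (j : ℕ), ∀ x ∈ P, y ^ j * x * (y ^ j)⁻¹ ∈ P := by
    intro j
    induction j with
    | zero => intro x hx; simpa using hx
    | succ j ih =>
      intro x hx
      have := hnorm _ (ih x hx)
      rw [pow_succ']
      convert this using 1
      group
  have h2 : ∀ j ∈ range q, j ≠ 0 →
      ∏ x : P, (((x : MulAut V) * y * (x : MulAut V)⁻¹) ^ j) v = 1 := by
    intro j hj hj0
    let f : P → P := fun x => ⟨(x : MulAut V) * (y ^ j * (x : MulAut V)⁻¹ * (y ^ j)⁻¹),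
      P.mul_mem x.2 (hn j _ (P.inv_mem x.2))⟩
    have hinj : Function.Injective f := by
      intro x x' h
      have h' := congrArg Subtype.val h
      simp only [f] at h'
      apply Subtype.ext
      refine inv_mul_eq_one.1 (hcomm j hj0 (mem_range.1 hj) _ (P.mul_mem (P.inv_mem x.2) x'.2) ?_)
      change (x : MulAut V)⁻¹ * x' * y ^ j = y ^ j * ((x : MulAut V)⁻¹ * x')
      calc (x : MulAut V)⁻¹ * x' * y ^ j
          = (x : MulAut V)⁻¹ * ((x' : MulAut V) * (y ^ j * (x' : MulAut V)⁻¹ * (y ^ j)⁻¹)) *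
              y ^ j * x' := by group
        _ = y ^ j * ((x : MulAut V)⁻¹ * x') := by rw [← h']; group
    let e := Equiv.ofBijective f (Finite.injective_iff_bijective.1 hinj)
    have he : ∏ x : P, (((x : MulAut V) * y * (x : MulAut V)⁻¹) ^ j) v =
        ∏ z : P, (z : MulAut V) ((y ^ j) v) :=
      Fintype.prod_equiv e _ _ fun x => by
        rw [conj_pow, ← MulAut.mul_apply]
        congr 1
        simp only [e, f, Equiv.ofBijective_apply]
        group
    rw [he]
    refine hPf _ fun w hw => ?_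
    rw [map_prod]
    exact Fintype.prod_equiv (Equiv.mulLeft ⟨w, hw⟩) _ _ fun z => by simp [MulAut.mul_apply]
  rw [prod_eq_single 0 (fun j hj hj0 => h2 j hj hj0)
    (fun h => absurd (mem_range.2 hq.pos) h)] at h1
  simpa [Nat.card_eq_fintype_card] using h1

/-- A four group of automorphisms of a non-trivial group of odd order fixes some element. -/
theorem exists_fixed_of_four {A : Type*} [Group A] [Finite A] [Nontrivial A]
    (hodd : Odd (Nat.card A)) {a b : MulAut A} (ha : a * a = 1) (hb : b * b = 1)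
    (hab : a * b * (a * b) = 1) :
    ∃ c ∈ ({a, b, a * b} : Set (MulAut A)), ∃ x : A, x ≠ 1 ∧ c x = x := by
  by_contra hno
  push Not at hno
  have key : ∀ c ∈ ({a, b, a * b} : Set (MulAut A)), c * c = 1 → ∀ x, c x = x⁻¹ := by
    intro c hc hcc x
    have hf : MonoidHom.FixedPointFree c := fun y hy => by
      by_contra hy1
      exact hno c hc y hy1 hy
    have hinv : Function.Involutive c := fun y => by rw [← MulAut.mul_apply, hcc]; rfl
    exact congrFun (MonoidHom.FixedPointFree.coe_eq_inv_of_involutive hf hinv) x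
  obtain ⟨x, hx⟩ := exists_ne (1 : A)
  have h := key (a * b) (by simp) hab x
  rw [MulAut.mul_apply, key b (by simp) hb, map_inv, key a (by simp) ha, inv_inv] at h
  have h2 : x ^ 2 = 1 := by rw [pow_two]; exact mul_eq_one_iff_eq_inv.2 h
  have h3 : orderOf x ∣ 2 := orderOf_dvd_of_pow_eq_one h2
  have h4 := Nat.coprime_two_right.2 (Odd.of_dvd_nat hodd (orderOf_dvd_natCard x))
  exact hx (orderOf_eq_one_iff.1 (Nat.eq_one_of_dvd_coprimes h4 dvd_rfl h3))

end CfsgLib.AutOrbits
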