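import Cfsg.Agent.Lib.AutOrbits.Basic

/-!
# The elements of order `q`
-/

set_option autoImplicit false

namespace CfsgLib.AutOrbits

variable {G : Type*} [Group G] [Finite G]

/-- A Sylow subgroup of a simple group, not the whole group, is not central in its normalizer. -/
theorem not_normalizer_le_centralizer [IsSimpleGroup G] {r : ℕ} [Fact r.Prime] (P : Sylow r G)
    (hne : (P : Subgroup G) ≠ ⊥) (htop : (P : Subgroup G) ≠ ⊤) :
    ¬ Subgroup.normalizer ((P : Subgroup G) : Set G) ≤
      Subgroup.centralizer ((P : Subgroup G) : Set G) := by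
  intro h
  have hC := MonoidHom.ker_transferSylow_isComplement' P h
  rcases (MonoidHom.transferSylow P h).normal_ker.eq_bot_or_eq_top with e | e
  · exact htop (Subgroup.isComplement'_bot_left.1 (e ▸ hC))
  · exact hne (Subgroup.isComplement'_top_left.1 (e ▸ hC))

namespace Spec

variable {p q : ℕ} (S : Spec G p q)
include S

theorem dvd_card : 2 ∣ Nat.card G ∧ p ∣ Nat.card G ∧ q ∣ Nat.card G := by
  obtain ⟨x, hx⟩ := S.exPair
  obtain ⟨y, hy⟩ := S.exQ
  have h := hx ▸ orderOf_dvd_natCard x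
  exact ⟨(dvd_mul_right 2 p).trans h, (dvd_mul_left p 2).trans h, hy ▸ orderOf_dvd_natCard y⟩

theorem two_p_q_dvd : 2 * p * q ∣ Nat.card G := by
  obtain ⟨h2, hp, hq⟩ := S.dvd_card
  refine Nat.Coprime.mul_dvd_of_dvd_of_dvd ?_ (Nat.Coprime.mul_dvd_of_dvd_of_dvd ?_ h2 hp) hq
  · exact Nat.Coprime.mul_left ((Nat.coprime_primes Nat.prime_two S.hq).2 (Ne.symm S.hq2))
      ((Nat.coprime_primes S.hp S.hq).2 S.hpq)
  · exact (Nat.coprime_primes Nat.prime_two S.hp).2 (Ne.symm S.hp2)

theorem not_q_group (Q : Subgroup G) (hQ : IsPGroup q Q) : Q ≠ ⊤ := by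
  rintro rfl
  haveI := Fact.mk S.hq
  obtain ⟨n, hn⟩ := hQ.exists_card_eq
  rw [Subgroup.card_top] at hn
  exact S.hq2 ((Nat.prime_dvd_prime_iff_eq Nat.prime_two S.hq).1
    (Nat.prime_two.dvd_of_dvd_pow (hn ▸ S.dvd_card.1))).symm

/-- At most half of the non-identity elements have order `q`. -/
theorem two_card_q [IsSimpleGroup G] :
    2 * Nat.card {g : G // orderOf g = q} + 2 < Nat.card G := by
  haveI := Fact.mk S.hq
  obtain ⟨y, hy⟩ := S.exQ
  obtain ⟨Q⟩ : Nonempty (Sylow q G) := inferInstance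
  have h := S.card_q_mul_le Q
  set n := Nat.card {g : G // orderOf g = q} with hn
  set N := Subgroup.normalizer ((Q : Subgroup G) : Set G) with hN
  set z := Nat.card (Subgroup.center (Q : Subgroup G)) with hz
  have hqQ : q ≤ Nat.card (Q : Subgroup G) :=
    Nat.le_of_dvd Nat.card_pos (Q.dvd_card_of_dvd_card S.dvd_card.2.2)
  have hG : Nat.card (Q : Subgroup G) * 2 * p ≤ Nat.card G := by
    obtain ⟨k, hk⟩ := Q.pow_dvd_card_of_pow_dvd_card (n := 0) (by simp)
    have h1 : Nat.card (Q : Subgroup G) ∣ Nat.card G := Subgroup.card_subgroup_dvd_card _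
    obtain ⟨h2, hp, -⟩ := S.dvd_card
    obtain ⟨m, hm⟩ := Q.isPGroup'.exists_card_eq
    refine Nat.le_of_dvd Nat.card_pos (Nat.Coprime.mul_dvd_of_dvd_of_dvd ?_
      (Nat.Coprime.mul_dvd_of_dvd_of_dvd ?_ h1 h2) hp)
    · refine Nat.Coprime.mul_left ?_ ((Nat.coprime_primes Nat.prime_two S.hp).2 (Ne.symm S.hp2))
      rw [hm]; exact Nat.Coprime.pow_left _ ((Nat.coprime_primes S.hq S.hp).2 (Ne.symm S.hpq))
    · rw [hm]; exact Nat.Coprime.pow_left _ ((Nat.coprime_primes S.hq Nat.prime_two).2 S.hq2)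
  have hp3 := S.two_lt_p
  have hq3 := S.two_lt_q
  have hzQ : z ≤ Nat.card (Q : Subgroup G) := Subgroup.card_le_card_group _
  have hz1 : 1 ≤ z := Nat.card_pos
  rcases eq_or_ne N (Q : Subgroup G) with e | e
  · have hna : ¬ IsMulCommutative (Q : Subgroup G) := fun hab => by
      refine not_normalizer_le_centralizer Q (Q.ne_bot_of_dvd_card S.dvd_card.2.2)
        (S.not_q_group _ Q.isPGroup') fun g hg => ?_
      rw [← hN, e] at hg
      exact Subgroup.mem_centralizer_iff.2 fun w hw =>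
        congrArg Subtype.val (hab.1.1 ⟨w, hw⟩ ⟨g, hg⟩)
    have hidx : q ∣ (Subgroup.center (Q : Subgroup G)).index := by
      obtain ⟨m, hm⟩ := Q.isPGroup'.index (Subgroup.center (Q : Subgroup G))
      rcases m with _ | m
      · exfalso
        rw [pow_zero, Subgroup.index_eq_one] at hm
        exact hna ⟨⟨fun a b => by
          have ha : a ∈ Subgroup.center (Q : Subgroup G) := hm ▸ Subgroup.mem_top _
          exact (Subgroup.mem_center_iff.1 ha b).symm⟩⟩
      · exact hm ▸ dvd_pow_self q (Nat.succ_ne_zero m)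
    have hmul := Subgroup.card_mul_index (Subgroup.center (Q : Subgroup G))
    have h3 : 3 * z ≤ Nat.card (Q : Subgroup G) := by
      have hpos : 0 < (Subgroup.center (Q : Subgroup G)).index :=
        Nat.pos_of_ne_zero Subgroup.index_ne_zero_of_finite
      have := Nat.le_of_dvd hpos hidx
      rw [← hmul, ← hz]
      nlinarith
    rw [e] at h
    zify [hz1] at h h3 hG hqQ hz1 hp3 hq3 ⊢
    nlinarith
  · have hle : (Q : Subgroup G) ≤ N := Subgroup.le_normalizer
    have h2 : 2 * Nat.card (Q : Subgroup G) ≤ Nat.card N := by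
      obtain ⟨k, hk⟩ := Subgroup.card_dvd_of_le hle
      have hpos : 0 < Nat.card N := Nat.card_pos
      have hk1 : k ≠ 1 := fun hk1 =>
        e (Subgroup.eq_of_le_of_card_ge hle (by rw [hk, hk1, mul_one])).symm
      have hk0 : k ≠ 0 := fun hk0 => by rw [hk, hk0, mul_zero] at hpos; omega
      rw [hk, mul_comm 2]
      exact Nat.mul_le_mul_left _ (by omega)
    zify [hz1] at h h2 hG hqQ hz1 hp3 hq3 hzQ ⊢
    nlinarith

/-- If `p` divides a Sylow `q`-normalizer then `p` times the number of elements of order `q` is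
less than the group order. -/
theorem p_card_q {Q : Sylow q G}
    (hd : p ∣ Nat.card (Subgroup.normalizer ((Q : Subgroup G) : Set G))) :
    p * Nat.card {g : G // orderOf g = q} < Nat.card G := by
  haveI := Fact.mk S.hq
  have h := S.card_q_mul_le Q
  set N := Subgroup.normalizer ((Q : Subgroup G) : Set G)
  obtain ⟨m, hm⟩ := Q.isPGroup'.exists_card_eq
  have h2 : p * Nat.card (Q : Subgroup G) ∣ Nat.card N := by
    refine Nat.Coprime.mul_dvd_of_dvd_of_dvd ?_ hd (Subgroup.card_dvd_of_le Subgroup.le_normalizer)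
    rw [hm]; exact Nat.Coprime.pow_right _ ((Nat.coprime_primes S.hp S.hq).2 S.hpq)
  have h3 : p * Nat.card (Q : Subgroup G) ≤ Nat.card N := Nat.le_of_dvd Nat.card_pos h2
  have hzQ := Subgroup.card_le_card_group (Subgroup.center (Q : Subgroup G))
  have hz1 : 1 ≤ Nat.card (Subgroup.center (Q : Subgroup G)) := Nat.card_pos
  have hGpos : 0 < Nat.card G := Nat.card_pos
  zify [hz1] at h h3 hzQ hz1 hGpos ⊢
  nlinarith

end Spec

end CfsgLib.AutOrbits
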