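import Cfsg.Agent.Lib.AutOrbits.Counting
import Cfsg.Agent.Lib.AutOrbits.QPart

/-!
# The normalizer of a Sylow `2`-subgroup
-/

set_option autoImplicit false
set_option linter.style.haveILetI false

namespace CfsgLib.AutOrbits

open Subgroup

variable {G : Type*} [Group G] [Finite G]

/-- The normalizer of `T` acting on `T`. -/
noncomputable abbrev phi (T : Sylow 2 G) :
    Subgroup.normalizer ((T : Subgroup G) : Set G) →* MulAut (T : Subgroup G) :=
  (T : Subgroup G).normalizerMonoidHom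

/-- The image of the normalizer of `T` in the automorphisms of `T`. -/
noncomputable abbrev weyl (T : Sylow 2 G) : Subgroup (MulAut (T : Subgroup G)) := (phi T).range

theorem phi_apply (T : Sylow 2 G) (n : Subgroup.normalizer ((T : Subgroup G) : Set G))
    (a : (T : Subgroup G)) : ((phi T n a : (T : Subgroup G)) : G) = (n : G) * a * (n : G)⁻¹ := rfl

theorem phi_fix_iff (T : Sylow 2 G) (n : Subgroup.normalizer ((T : Subgroup G) : Set G))
    (a : (T : Subgroup G)) : phi T n a = a ↔ (n : G) ∈ cent (a : G) := by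
  rw [Subtype.ext_iff, phi_apply, mem_cent, mul_inv_eq_iff_eq_mul]

theorem phi_eq_one_iff (T : Sylow 2 G) (n : Subgroup.normalizer ((T : Subgroup G) : Set G)) :
    phi T n = 1 ↔ ∀ a : (T : Subgroup G), (n : G) ∈ cent (a : G) := by
  refine ⟨fun h a => (phi_fix_iff T n a).1 (by rw [h]; rfl), fun h => ?_⟩
  ext a
  rw [(phi_fix_iff T n a).2 (h a)]
  rfl

namespace Spec

variable {p q : ℕ} (S : Spec G p q)
include S

theorem sylow_ne_bot (T : Sylow 2 G) : (T : Subgroup G) ≠ ⊥ := by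
  haveI := Fact.mk Nat.prime_two
  exact T.ne_bot_of_dvd_card S.dvd_card.1

theorem sylow_ne_top (T : Sylow 2 G) : (T : Subgroup G) ≠ ⊤ := by
  intro h
  obtain ⟨x, hx⟩ := S.exP
  have := S.sylow_sq T (h ▸ Subgroup.mem_top x)
  have h2 : p ∣ 2 := hx ▸ orderOf_dvd_of_pow_eq_one (by rw [pow_two]; exact this)
  exact S.hp2 ((Nat.prime_dvd_prime_iff_eq S.hp Nat.prime_two).1 h2)

theorem phi_self (T : Sylow 2 G) {n : Subgroup.normalizer ((T : Subgroup G) : Set G)}
    (hn : (n : G) ∈ (T : Subgroup G)) : phi T n = 1 :=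
  (phi_eq_one_iff T n).2 fun a => S.sylow_le_cent T a.2 hn

theorem odd_weyl (T : Sylow 2 G) : Odd (Nat.card (weyl T)) := by
  haveI := Fact.mk Nat.prime_two
  set N := Subgroup.normalizer ((T : Subgroup G) : Set G)
  have hle : (T : Subgroup G) ≤ N := Subgroup.le_normalizer
  rw [Nat.not_even_iff_odd.symm]
  intro hev
  have h1 : Nat.card (weyl T) ∣ ((T : Subgroup G).subgroupOf N).index := by
    rw [← Subgroup.index_ker]
    exact Subgroup.index_dvd_of_le fun n hn => S.phi_self T (Subgroup.mem_subgroupOf.1 hn)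
  have h2 : ¬ 2 ∣ ((T : Subgroup G).subgroupOf N).index := by
    have h := (T.subtype hle).not_dvd_index
    rwa [Sylow.coe_subtype] at h
  exact h2 ((even_iff_two_dvd.1 hev).trans h1)

theorem weyl_ne_bot [IsSimpleGroup G] (T : Sylow 2 G) : weyl T ≠ ⊥ := by
  haveI := Fact.mk Nat.prime_two
  intro h
  refine not_normalizer_le_centralizer T (S.sylow_ne_bot T) (S.sylow_ne_top T) fun n hn => ?_
  have h1 : phi T ⟨n, hn⟩ = 1 := Subgroup.mem_bot.1 (h ▸ ⟨_, rfl⟩)
  exact Subgroup.mem_centralizer_iff.2 fun a ha =>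
    (mem_cent.1 ((phi_eq_one_iff T _).1 h1 ⟨a, ha⟩)).symm

theorem three_le_weyl [IsSimpleGroup G] (T : Sylow 2 G) : 3 ≤ Nat.card (weyl T) := by
  have h1 := Nat.odd_iff.1 (S.odd_weyl T)
  have h2 : Nat.card (weyl T) ≠ 1 := fun h => S.weyl_ne_bot T (Subgroup.card_eq_one.1 h)
  omega

theorem four_le_sylow [IsSimpleGroup G] (T : Sylow 2 G) : 4 ≤ Nat.card (T : Subgroup G) := by
  haveI := Fact.mk Nat.prime_two
  obtain ⟨k, hk⟩ := T.isPGroup'.exists_card_eq
  rcases k with _ | _ | k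
  · exact absurd (Subgroup.card_eq_one.1 (by simpa using hk)) (S.sylow_ne_bot T)
  · exfalso
    refine S.weyl_ne_bot T ((Subgroup.eq_bot_iff_forall _).2 ?_)
    rintro _ ⟨n, rfl⟩
    refine (phi_eq_one_iff T n).2 fun a => (phi_fix_iff T n a).1 ?_
    by_cases ha : a = 1
    · rw [ha, map_one]
    have hn1 : phi T n a ≠ 1 := fun h => ha ((phi T n).injective (by rw [h, map_one]))
    classical
    haveI := Fintype.ofFinite (T : Subgroup G)
    by_contra hne
    have h3 : ({1, a, phi T n a} : Finset (T : Subgroup G)).card = 3 :=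
      Finset.card_eq_three.2 ⟨1, a, phi T n a, Ne.symm ha, Ne.symm hn1, Ne.symm hne, rfl⟩
    have := Finset.card_le_univ ({1, a, phi T n a} : Finset (T : Subgroup G))
    rw [← Nat.card_eq_fintype_card, hk, h3] at this
    omega
  · rw [hk]
    calc 4 = 2 ^ 2 := rfl
      _ ≤ 2 ^ (k + 1 + 1) := Nat.pow_le_pow_right two_pos (by omega)

theorem conj_into (T : Sylow 2 G) {u : G} (hu : orderOf u = 2) :
    ∃ g : G, g⁻¹ * u * g ∈ (T : Subgroup G) := by
  haveI := Fact.mk Nat.prime_two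
  obtain ⟨R, hR⟩ : ∃ R : Sylow 2 G, Subgroup.zpowers u ≤ R :=
    (IsPGroup.of_card (p := 2) (n := 1) (by rw [Nat.card_zpowers, hu, pow_one])).exists_le_sylow
  obtain ⟨g, hg⟩ := MulAction.exists_smul_eq G R T
  refine ⟨g⁻¹, ?_⟩
  rw [← hg]
  change g⁻¹⁻¹ * u * g⁻¹ ∈ ((g • R : Sylow 2 G) : Subgroup G)
  rw [Sylow.coe_subgroup_smul, Subgroup.mem_pointwise_smul_iff_inv_smul_mem]
  have := hR (Subgroup.mem_zpowers u)
  simpa [MulAut.smul_def, mul_assoc] using this

/-- Fusion in `T` is controlled by its normalizer. -/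
theorem fusion (T : Sylow 2 G) {a b : (T : Subgroup G)} {g : G}
    (h : g⁻¹ * (a : G) * g = (b : G)) : ∃ ω : weyl T, (ω : MulAut (T : Subgroup G)) a = b := by
  haveI := Fact.mk Nat.prime_two
  haveI : IsMulCommutative (T : Subgroup G) :=
    ⟨⟨fun x y => Subtype.ext (S.sylow_comm T x.2 y.2)⟩⟩
  obtain ⟨n, hn, e⟩ := T.conj_eq_normalizer_conj_of_mem (a : G) g a.2 (h ▸ b.2)
  refine ⟨⟨phi T ⟨n⁻¹, inv_mem hn⟩, _, rfl⟩, Subtype.ext ?_⟩
  rw [phi_apply, ← h, e]
  simp

end Spec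

end CfsgLib.AutOrbits
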