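import Cfsg.Agent.Lib.EPPO.Four
import Cfsg.Agent.S0205
import Cfsg.Agent.Lib.Suzuki.Tori
import Cfsg.Agent.Lib.Suzuki.LieEquiv
import Cfsg.Agent.Lib.Suzuki.Solv

/-!
# Five element orders in most simple CIT groups
-/

set_option autoImplicit false
set_option linter.style.haveILetI false
set_option linter.unusedSectionVars false

namespace CfsgLib.AutOrbits

open Matrix
open scoped MatrixGroups

variable {G : Type*} [Group G] [Finite G]

/-- All non-identity element orders are among four numbers. -/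
def FewOrders (G : Type*) [Group G] : Prop :=
  ∃ s : Finset ℕ, s.card ≤ 4 ∧ ∀ g : G, g ≠ 1 → orderOf g ∈ s

theorem FewOrders.false (h : FewOrders G) (l : Finset ℕ) (hl : 5 ≤ l.card)
    (hex : ∀ n ∈ l, n ≠ 1 ∧ ∃ g : G, orderOf g = n) : False := by
  obtain ⟨s, hs, hmem⟩ := h
  have : l ⊆ s := fun n hn => by
    obtain ⟨h1, g, hg⟩ := hex n hn
    rw [← hg]
    exact hmem g fun e => h1 (by rw [← hg, e, orderOf_one])
  have := Finset.card_le_card this
  omega

theorem exists_order_of_prime_dvd {r : ℕ} (hr : r.Prime) (h : r ∣ Nat.card G) :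
    r ≠ 1 ∧ ∃ g : G, orderOf g = r := by
  haveI := Fact.mk hr
  exact ⟨hr.ne_one, exists_prime_orderOf_dvd_card' r h⟩

theorem card_five {a b c d e : ℕ} (h : List.Nodup [a, b, c, d, e]) :
    5 ≤ ({a, b, c, d, e} : Finset ℕ).card := by
  have : [a, b, c, d, e].toFinset = ({a, b, c, d, e} : Finset ℕ) := by ext; simp
  rw [← this, List.toFinset_card_of_nodup h]
  rfl

theorem not_few_psl34 {F : Type} [Field F] [Fintype F] (hF : Fintype.card F = 4)
    (e : G ≃* ProjectiveSpecialLinearGroup (Fin 3) F) : ¬ FewOrders G := by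
  intro h
  have hc : Nat.card G = 20160 := by rw [Nat.card_congr e.toEquiv, CfsgLib.Steiner.natCard_PSL34 F hF]
  have h2 := CfsgLib.Classical.PSLThreeFour.two_eq_zero hF
  let J : SL(3, F) := ⟨!![1, 1, 0; 0, 1, 1; 0, 0, 1], by rw [Matrix.det_fin_three]; simp⟩
  let π := QuotientGroup.mk' (Subgroup.center SL(3, F))
  have hJ2 : π J ^ 2 ≠ 1 := by
    intro he
    rw [← map_pow] at he
    obtain ⟨r, -, hr⟩ := Matrix.SpecialLinearGroup.mem_center_iff.1 ((QuotientGroup.eq_one_iff _).1 he)
    rw [Matrix.SpecialLinearGroup.coe_pow, pow_two] at hr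
    have h02 := congrFun (congrFun hr 0) 2
    simp [J, Matrix.mul_apply, Fin.sum_univ_three] at h02
  have hJ4 : π J ^ 4 = 1 := by
    rw [← map_pow, show J ^ 4 = 1 from ?_, map_one]
    ext i j
    rw [Matrix.SpecialLinearGroup.coe_pow]
    fin_cases i <;> fin_cases j <;>
      simp [J, pow_succ, Matrix.mul_apply, Fin.sum_univ_three] <;>
      linear_combination (norm := ring_nf) (2 : F) * h2 <;> simp [h2]
  have ho : orderOf (π J) = 4 := by
    haveI := Fact.mk Nat.prime_two
    have := orderOf_eq_prime_pow (p := 2) (n := 1) (x := π J) (by simpa using hJ2) (by simpa using hJ4)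
    simpa using this
  refine h.false {2, 3, 4, 5, 7} (card_five (by decide)) fun n hn => ?_
  simp only [Finset.mem_insert, Finset.mem_singleton] at hn
  rcases hn with rfl | rfl | rfl | rfl | rfl
  · exact exists_order_of_prime_dvd Nat.prime_two (by rw [hc]; norm_num)
  · exact exists_order_of_prime_dvd Nat.prime_three (by rw [hc]; norm_num)
  · exact ⟨by norm_num, e.symm (π J), by rw [MulEquiv.orderOf_eq]; exact ho⟩
  · exact exists_order_of_prime_dvd (by norm_num) (by rw [hc]; norm_num)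
  · exact exists_order_of_prime_dvd (by norm_num) (by rw [hc]; norm_num)

theorem not_few_suzuki (hS : Cfsg.Lie.IsoSuzuki G) : ¬ FewOrders G := by
  intro h
  obtain ⟨F, iF, fF, m, hm, hF, ⟨e⟩⟩ := hS
  haveI := CfsgLib.Suzuki.charP_two_of_card hF
  haveI : CfsgLib.Suzuki.Param F m := ⟨hm, hF⟩
  let e' : CfsgLib.Suzuki.Gp F m ≃* G := (CfsgLib.Suzuki.lieEquiv F m).trans e.symm
  have hcard : Nat.card G = (Fintype.card F - 1) * (Fintype.card F ^ 2 * (Fintype.card F ^ 2 + 1)) := by
    rw [← Nat.card_congr e'.toEquiv, CfsgLib.Suzuki.card_group_split, CfsgLib.Suzuki.natCard_grpH]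
  have htor : ∀ j ∈ ({2 ^ (2 * m + 1) + 2 ^ (m + 1) + 1, 2 ^ (2 * m + 1) - 2 ^ (m + 1) + 1} : Set ℕ),
      ∃ g : G, orderOf g = j := fun j hj => by
    obtain ⟨A, hA, hAc, -, -⟩ := CfsgLib.Suzuki.tori F m j hj
    obtain ⟨g, hg⟩ := IsCyclic.exists_generator (α := A)
    exact ⟨e' (g : CfsgLib.Suzuki.Gp F m), by rw [MulEquiv.orderOf_eq, Subgroup.orderOf_coe,
      orderOf_eq_card_of_forall_mem_zpowers hg, hAc]⟩
  have h4 : ∃ g : G, orderOf g = 4 := by
    haveI := Fact.mk Nat.prime_two
    refine ⟨e' (CfsgLib.Suzuki.gT (1 : F) 0), ?_⟩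
    rw [MulEquiv.orderOf_eq]
    have hsq : (CfsgLib.Suzuki.gT (m := m) (1 : F) 0) ^ 2 = CfsgLib.Suzuki.gT 0 1 := by
      rw [pow_two, CfsgLib.Suzuki.gT_sq, map_one, one_mul]
    have := orderOf_eq_prime_pow (p := 2) (n := 1) (x := CfsgLib.Suzuki.gT (m := m) (1 : F) 0)
      (by rw [pow_one, hsq]; exact CfsgLib.Suzuki.gT_ne_one (Or.inr one_ne_zero))
      (by rw [show 2 ^ (1 + 1) = 2 * 2 by norm_num, pow_mul, hsq, pow_two, CfsgLib.Suzuki.gT_sq,
        map_zero, zero_mul, CfsgLib.Suzuki.gT_zero])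
    simpa using this
  have hq8 : 8 ≤ Fintype.card F := by
    rw [hF]; exact le_trans (by norm_num) (Nat.pow_le_pow_right two_pos (show 3 ≤ 2 * m + 1 by omega))
  obtain ⟨r, hr, hrd⟩ := Nat.exists_prime_and_dvd (show Fintype.card F - 1 ≠ 1 by omega)
  have hco := CfsgLib.Suzuki.coprime_sq (F := F) (m := m)
  set R := 2 ^ (m + 1) with hR
  have hR2 : R * R = 2 * Fintype.card F := by
    rw [hF, hR, ← pow_add, ← pow_succ']; congr 1; omega
  rw [← hF] at htor
  set Q := Fintype.card F with hQ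
  have hQeven : Q % 2 = 0 := by rw [hF, pow_succ]; omega
  have hReven : R % 2 = 0 := by rw [hR, pow_succ]; omega
  have hR4 : 4 ≤ R := by
    rw [hR]; exact le_trans (by norm_num) (Nat.pow_le_pow_right two_pos (show 2 ≤ m + 1 by omega))
  have hlt : R < Q := by nlinarith
  have hdvd : ∀ j, (j = Q + R + 1 ∨ j = Q - R + 1) → j ∣ Q ^ 2 + 1 := by
    intro j hj
    have hprod : (Q + R + 1) * (Q - R + 1) = Q ^ 2 + 1 := by
      zify [hlt.le]
      have : (R : ℤ) * R = 2 * Q := by exact_mod_cast hR2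
      linear_combination -this
    rcases hj with rfl | rfl
    · exact ⟨_, hprod.symm⟩
    · exact ⟨_, (mul_comm _ _).trans hprod |>.symm⟩
  have hrne : ∀ j, (j = Q + R + 1 ∨ j = Q - R + 1) → r ≠ j := fun j hj e0 =>
    hr.ne_one (Nat.eq_one_of_dvd_coprimes hco hrd (e0 ▸ hdvd j hj))
  have hrodd : r % 2 = 1 := by
    rcases hr.eq_two_or_odd with rfl | h'
    · omega
    · exact h'
  refine h.false {2, 4, r, Q + R + 1, Q - R + 1} (card_five ?_) fun n hn => ?_
  · simp only [List.nodup_cons, List.mem_cons, List.not_mem_nil, or_false, not_false_iff,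
      List.nodup_nil, and_true, not_or]
    have := hrne _ (Or.inl rfl)
    have := hrne _ (Or.inr rfl)
    omega
  simp only [Finset.mem_insert, Finset.mem_singleton] at hn
  rcases hn with rfl | rfl | rfl | rfl | rfl
  · refine exists_order_of_prime_dvd Nat.prime_two ?_
    rw [hcard]
    exact dvd_mul_of_dvd_right (dvd_mul_of_dvd_left ((Nat.dvd_of_mod_eq_zero hQeven).trans (dvd_pow_self Q two_ne_zero)) _) _
  · exact ⟨by norm_num, h4⟩
  · exact exists_order_of_prime_dvd hr (hcard ▸ hrd.trans (dvd_mul_right _ _))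
  · exact ⟨by omega, htor _ (Or.inl rfl)⟩
  · exact ⟨by omega, htor _ (Or.inr rfl)⟩

/-- Small fields only, for `PSL(2, q)`. -/
theorem psl_card {F : Type} [Field F] [Fintype F] (e : G ≃* ProjectiveSpecialLinearGroup (Fin 2) F)
    (hF : Fintype.card F = 9 ∨ (∃ n : ℕ, Fintype.card F = 2 ^ n) ∨
      ((Fintype.card F).Prime ∧ ∃ k : ℕ, Fintype.card F = 2 ^ k + 1 ∨ Fintype.card F + 1 = 2 ^ k))
    (hns : ¬ Group.IsSolvable G) (h : FewOrders G) :
    Fintype.card F ∈ ({4, 5, 7, 8, 9} : Finset ℕ) := by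
  have hq4 : 4 ≤ Nat.card F := by
    rw [← Fintype.card_eq_nat_card]
    by_contra hlt
    have hq1 := Fintype.one_lt_card (α := F)
    haveI : Group.IsSolvable (ProjectiveSpecialLinearGroup (Fin 2) F) := by
      refine CfsgLib.AEightSub.isSolvable_of_card_lt ?_
      have h := CfsgLib.SL2.card_PSL (F := F)
      rw [← Fintype.card_eq_nat_card] at h
      rcases (show Fintype.card F = 2 ∨ Fintype.card F = 3 by omega) with e2 | e2 <;>
        rw [e2] at h <;> norm_num at h <;> omega
    exact hns (Group.isSolvable_of_surjective (f := e.symm.toMonoidHom) e.symm.surjective)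
  have hord : ∀ n : ℕ, n ∣ (Nat.card F - 1) / CfsgLib.SL2.dd F ∨
      n ∣ (Nat.card F + 1) / CfsgLib.SL2.dd F → ∃ x : G, orderOf x = n := fun n hn => by
    obtain ⟨c, hc⟩ := CfsgLib.SL2.exists_orderOf_of_dvd hq4 hn
    exact ⟨e.symm c, by rw [MulEquiv.orderOf_eq, hc]⟩
  have hcard : Nat.gcd 2 (Nat.card F - 1) * Nat.card G =
      Nat.card F * ((Nat.card F - 1) * (Nat.card F + 1)) := by
    rw [Nat.card_congr e.toEquiv]; exact CfsgLib.SL2.card_PSL
  simp only [CfsgLib.SL2.dd, Nat.card_eq_fintype_card (α := F)] at hord hq4 hcard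
  have h2G : 2 ∣ Nat.card G := by
    rcases Nat.even_or_odd (Nat.card G) with he | ho
    · exact even_iff_two_dvd.1 he
    · exact absurd (Cfsg.Agent.S0205.result ho) hns
  have htwo := exists_order_of_prime_dvd Nat.prime_two h2G
  rcases hF with h9 | ⟨n, hn⟩ | ⟨hp, k, hk⟩
  · simp [h9]
  · rw [hn] at hord hq4 ⊢
    have hn2 : 2 ≤ n := by
      by_contra hlt
      interval_cases n <;> norm_num at hq4
    by_contra hmem
    have hn4 : 4 ≤ n := by
      by_contra hlt
      interval_cases n <;> simp at hmem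
    have h16 : 16 ≤ 2 ^ n := le_trans (by norm_num) (Nat.pow_le_pow_right two_pos hn4)
    have hev : 2 ∣ 2 ^ n := dvd_pow_self 2 (by omega)
    have hg : Nat.gcd 2 (2 ^ n - 1) = 1 :=
      Nat.coprime_two_left.2 (Nat.odd_iff.2 (by omega))
    rw [hg, Nat.div_one, Nat.div_one] at hord
    rcases Nat.even_or_odd n with ⟨j, hj⟩ | ho
    · have hjj : 2 ^ n = 2 ^ j * 2 ^ j := by rw [← pow_add, hj]
      have h4j : 4 ≤ 2 ^ j := le_trans (by norm_num) (Nat.pow_le_pow_right two_pos (show 2 ≤ j by omega))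
      have h2j : 2 ∣ 2 ^ j := dvd_pow_self 2 (by omega)
      have hprod : (2 ^ j + 1) * (2 ^ j - 1) = 2 ^ n - 1 := by
        rw [hjj, ← Nat.sq_sub_sq, one_pow, pow_two]
      have hlt : 2 ^ j + 1 < 2 ^ n - 1 := by
        have : 4 * 2 ^ j ≤ 2 ^ j * 2 ^ j := Nat.mul_le_mul_right _ h4j
        omega
      refine h.false {2, 2 ^ j - 1, 2 ^ j + 1, 2 ^ n - 1, 2 ^ n + 1} (card_five ?_) fun x hx => ?_
      · simp only [List.nodup_cons, List.mem_cons, List.not_mem_nil, or_false, not_false_iff,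
          List.nodup_nil, and_true, not_or]
        omega
      simp only [Finset.mem_insert, Finset.mem_singleton] at hx
      rcases hx with rfl | rfl | rfl | rfl | rfl
      · exact htwo
      · exact ⟨by omega, hord _ (Or.inl ⟨_, hprod.symm.trans (mul_comm _ _)⟩)⟩
      · exact ⟨by omega, hord _ (Or.inl ⟨_, hprod.symm⟩)⟩
      · exact ⟨by omega, hord _ (Or.inl dvd_rfl)⟩
      · exact ⟨by omega, hord _ (Or.inr dvd_rfl)⟩
    · obtain ⟨c, hc⟩ := CfsgLib.EPPO.three_dvd_pow_add_one ho
      refine h.false {2, 3, c, 2 ^ n - 1, 2 ^ n + 1} (card_five ?_) fun x hx => ?_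
      · simp only [List.nodup_cons, List.mem_cons, List.not_mem_nil, or_false, not_false_iff,
          List.nodup_nil, and_true, not_or]
        omega
      simp only [Finset.mem_insert, Finset.mem_singleton] at hx
      rcases hx with rfl | rfl | rfl | rfl | rfl
      · exact htwo
      · exact ⟨by omega, hord _ (Or.inr ⟨c, hc⟩)⟩
      · exact ⟨by omega, hord _ (Or.inr ⟨3, by rw [hc, mul_comm]⟩)⟩
      · exact ⟨by omega, hord _ (Or.inl dvd_rfl)⟩
      · exact ⟨by omega, hord _ (Or.inr dvd_rfl)⟩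
  · by_contra hmem
    set p := Fintype.card F with hpF
    simp only [Finset.mem_insert, Finset.mem_singleton, not_or] at hmem
    have hodd : p % 2 = 1 := hp.eq_two_or_odd.resolve_left (by omega)
    have hg : Nat.gcd 2 (p - 1) = 2 := Nat.gcd_eq_left (by omega)
    rw [hg] at hord hcard
    have hpG : p ≠ 1 ∧ ∃ g : G, orderOf g = p := by
      refine exists_order_of_prime_dvd hp ?_
      refine ((Nat.coprime_primes hp Nat.prime_two).2 (by omega)).dvd_of_dvd_mul_left ?_
      rw [hcard]; exact dvd_mul_right _ _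
    have hk4 : 4 ≤ k := by
      by_contra hlt
      interval_cases k
      all_goals rcases hk with hk | hk
      all_goals norm_num at hk
      all_goals first
        | omega
        | exact absurd (hk ▸ hp) (by norm_num)
    obtain ⟨k', rfl⟩ : ∃ k', k = k' + 1 := ⟨k - 1, by omega⟩
    rw [pow_succ] at hk
    have h8 : 8 ∣ 2 ^ k' := by
      rw [show 8 = 2 ^ 3 from rfl]; exact Nat.pow_dvd_pow 2 (by omega)
    have h8le : 8 ≤ 2 ^ k' := Nat.le_of_dvd (by positivity) h8
    have h4d : 4 ∣ 2 ^ k' := dvd_trans (by norm_num) h8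
    rcases hk with hk | hk
    · refine h.false {2, 4, 8, p, (p + 1) / 2} (card_five ?_) fun x hx => ?_
      · simp only [List.nodup_cons, List.mem_cons, List.not_mem_nil, or_false, not_false_iff,
          List.nodup_nil, and_true, not_or]
        omega
      have e1 : (p - 1) / 2 = 2 ^ k' := by omega
      simp only [Finset.mem_insert, Finset.mem_singleton] at hx
      rcases hx with rfl | rfl | rfl | rfl | rfl
      · exact htwo
      · exact ⟨by omega, hord _ (Or.inl (e1 ▸ h4d))⟩
      · exact ⟨by omega, hord _ (Or.inl (e1 ▸ h8))⟩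
      · exact hpG
      · exact ⟨by omega, hord _ (Or.inr dvd_rfl)⟩
    · refine h.false {2, 4, 8, p, (p - 1) / 2} (card_five ?_) fun x hx => ?_
      · simp only [List.nodup_cons, List.mem_cons, List.not_mem_nil, or_false, not_false_iff,
          List.nodup_nil, and_true, not_or]
        omega
      have e1 : (p + 1) / 2 = 2 ^ k' := by omega
      simp only [Finset.mem_insert, Finset.mem_singleton] at hx
      rcases hx with rfl | rfl | rfl | rfl | rfl
      · exact htwo
      · exact ⟨by omega, hord _ (Or.inr (e1 ▸ h4d))⟩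
      · exact ⟨by omega, hord _ (Or.inr (e1 ▸ h8))⟩
      · exact hpG
      · exact ⟨by omega, hord _ (Or.inl dvd_rfl)⟩

end CfsgLib.AutOrbits
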