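import Cfsg.Agent.Lib.AutOrbits.Weyl

/-!
# No simple group has the element orders `1, 2, p, q, 2p` with one class per order
-/

set_option autoImplicit false
set_option linter.style.haveILetI false

namespace CfsgLib.AutOrbits

open Subgroup

variable {G : Type*} [Group G] [Finite G]

/-- In a group of order dividing `|E| i`, `i ≤ p`, where an element of `E` centralizes some element of
order `p` in every Sylow `p`-subgroup, bound the solutions of `x ^ p = 1`. -/
theorem card_solutions_le {H : Type*} [Group H] [Finite H] {p : ℕ} (hp : p.Prime) (hp2 : p ≠ 2)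
    {m : ℕ} (hcard : Nat.card H = 2 ^ m * p) (hm : 1 ≤ m) {z : H} (hz : orderOf z = 2)
    (hc : ∀ x : H, Commute z x) :
    2 * Nat.card {x : H // x ^ p = 1} ≤ 2 + (p - 1) * 2 ^ m := by
  classical
  haveI := Fact.mk hp
  obtain ⟨P⟩ : Nonempty (Sylow p H) := inferInstance
  have hcopr : (2 ^ m).Coprime p :=
    ((Nat.coprime_primes Nat.prime_two hp).2 (Ne.symm hp2)).pow_left m
  have hPc : ∀ R : Sylow p H, Nat.card (R : Subgroup H) = p := fun R => by
    rw [R.card_eq_multiplicity, hcard, Nat.factorization_mul (by positivity) hp.ne_zero,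
      Finsupp.add_apply, Nat.factorization_eq_zero_of_not_dvd
        ((Nat.Prime.coprime_iff_not_dvd hp).1 hcopr.symm), hp.factorization_self, zero_add, pow_one]
  have hN : 2 * p ≤ Nat.card (Subgroup.normalizer ((P : Subgroup H) : Set H)) := by
    refine Nat.le_of_dvd Nat.card_pos (((Nat.coprime_primes Nat.prime_two hp).2 (Ne.symm hp2)).mul_dvd_of_dvd_of_dvd
      ?_ ?_)
    · rw [← hz]
      refine Subgroup.orderOf_dvd_natCard _ (Subgroup.mem_normalizer_iff.2 fun x => ?_)
      rw [(hc x).eq, mul_inv_cancel_right]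
    · conv_lhs => rw [← hPc P]
      exact Subgroup.card_dvd_of_le Subgroup.le_normalizer
  have hS : 2 * Nat.card (Sylow p H) ≤ 2 ^ m := by
    have h := Subgroup.card_mul_index (Subgroup.normalizer ((P : Subgroup H) : Set H))
    rw [hcard, show (Subgroup.normalizer ((P : Subgroup H) : Set H)).index = Nat.card (Sylow p H) from
      P.card_eq_index_normalizer.symm] at h
    have := Nat.mul_le_mul_right (Nat.card (Sylow p H)) hN
    rw [h] at this
    refine Nat.le_of_mul_le_mul_left ?_ hp.pos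
    calc p * (2 * Nat.card (Sylow p H)) = 2 * p * Nat.card (Sylow p H) := by ring
      _ ≤ 2 ^ m * p := this
      _ = p * 2 ^ m := mul_comm _ _
  -- each solution other than `1` generates a Sylow subgroup
  have hex : ∀ x : {x : H // x ^ p = 1 ∧ x ≠ 1}, ∃ R : Sylow p H, x.1 ∈ (R : Subgroup H) := fun x => by
    obtain ⟨R, hR⟩ := (IsPGroup.of_card (p := p) (n := 1) (G := Subgroup.zpowers x.1) (by
      rw [Nat.card_zpowers, orderOf_eq_prime x.2.1 x.2.2, pow_one])).exists_le_sylow
    exact ⟨R, hR (Subgroup.mem_zpowers _)⟩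
  choose R hR using hex
  let f : {x : H // x ^ p = 1 ∧ x ≠ 1} → Σ R : Sylow p H, {y : (R : Subgroup H) // y ≠ 1} :=
    fun x => ⟨R x, ⟨⟨x.1, hR x⟩, fun h => x.2.2 (congrArg Subtype.val h)⟩⟩
  have hf : Function.Injective f := fun a b h => Subtype.ext
    (congrArg (fun s : Σ R : Sylow p H, {y : (R : Subgroup H) // y ≠ 1} => ((s.2 : (s.1 : Subgroup H)) : H)) h)
  have hle := Nat.card_le_card_of_injective f hf
  haveI := Fintype.ofFinite (Sylow p H)
  have hc' : ∀ R : Sylow p H, Nat.card {y : (R : Subgroup H) // y ≠ 1} = p - 1 := fun R => by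
    haveI := Fintype.ofFinite (R : Subgroup H)
    rw [Nat.card_eq_fintype_card, Fintype.card_subtype_compl, Fintype.card_subtype_eq,
      ← Nat.card_eq_fintype_card, hPc]
  rw [Nat.card_sigma, Finset.sum_congr rfl (fun R _ => hc' R), Finset.sum_const, smul_eq_mul,
    Finset.card_univ, ← Nat.card_eq_fintype_card] at hle
  haveI := Fintype.ofFinite H
  have hsplit : Nat.card {x : H // x ^ p = 1} ≤ Nat.card {x : H // x ^ p = 1 ∧ x ≠ 1} + 1 := by
    simp only [Nat.card_eq_fintype_card, Fintype.card_subtype]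
    refine le_trans (Finset.card_le_card (t := insert 1 ({x : H | x ^ p = 1 ∧ x ≠ 1} : Finset H))
      fun x hx => ?_) (Finset.card_insert_le _ _)
    simp only [Finset.mem_filter, Finset.mem_univ, true_and] at hx
    by_cases h : x = 1 <;> simp [h, hx]
  have h2 := Nat.mul_le_mul_left (p - 1) hS
  calc 2 * Nat.card {x : H // x ^ p = 1}
      ≤ 2 * (Nat.card (Sylow p H) * (p - 1) + 1) := Nat.mul_le_mul_left _ (hsplit.trans (by omega))
    _ = 2 + (p - 1) * (2 * Nat.card (Sylow p H)) := by ring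
    _ ≤ _ := by omega

namespace Spec

variable {p q : ℕ} (S : Spec G p q)
include S

/-- Structure of `C(t)` when the fixer of `t` has order `p`. -/
theorem cent_bound [IsSimpleGroup G] (T : Sylow 2 G) {t : G} (ht : t ∈ (T : Subgroup G)) (ht1 : t ≠ 1)
    (hst : Nat.card (fixer T ⟨t, ht⟩) = p) :
    ∃ i, (i = 1 ∨ i = p) ∧ Nat.card (cent t) = Nat.card (coreOf t) * (Nat.card (T : Subgroup G) * i) ∧
      2 * solCount t p ≤ Nat.card (coreOf t) *
        (2 + (i - 1) * Nat.card (T : Subgroup G)) ∧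
      ∀ (c x : cent t), coreOf t = ⊥ → orderOf x = p → c * x * c⁻¹ ∈ Subgroup.zpowers x → Commute c x := by
  classical
  haveI := Fact.mk Nat.prime_two
  haveI := Fact.mk S.hp
  haveI := Transfer.pPrimeCore_normal 2 (cent t)
  obtain ⟨hn, hC, hcard⟩ := S.quotient_facts T ht ht1
  set O := Cfsg.oddCore (cent t) with hO
  set π := QuotientGroup.mk' O with hπ
  set Tb := ((T : Subgroup G).subgroupOf (cent t)).map π with hTb
  haveI : Tb.Normal := hn
  have hA : Nat.card (coreOf t) = Nat.card O :=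
    Subgroup.card_map_of_injective (cent t).subtype_injective
  -- the index of `Tb` is at most `p`
  set a : (T : Subgroup G) := ⟨t, ht⟩
  choose n hn' using fun ω : fixer T a => (ω.1 : weyl T).2
  have hnC : ∀ ω : fixer T a, (n ω : G) ∈ cent t := fun ω => by
    have h := mem_fixer.1 ω.2
    rw [← hn' ω] at h
    exact (phi_fix_iff T (n ω) a).1 h
  let ψ : fixer T a → (cent t ⧸ O) ⧸ Tb := fun ω => QuotientGroup.mk (π ⟨n ω, hnC ω⟩)
  have hψ : Function.Surjective ψ := by
    intro X
    induction X using QuotientGroup.induction_on with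
    | H Y =>
      induction Y using QuotientGroup.induction_on with
      | H c =>
        obtain ⟨b, hb, m, hmC, hmN, e⟩ := S.exists_core_mul T ht ht1 c.2
        have hfix : (⟨phi T ⟨m, hmN⟩, _, rfl⟩ : weyl T) ∈ fixer T a :=
          mem_fixer.2 ((phi_fix_iff T ⟨m, hmN⟩ a).2 hmC)
        refine ⟨⟨_, hfix⟩, ?_⟩
        set ω : fixer T a := ⟨_, hfix⟩
        obtain ⟨b', hb', rfl⟩ := hb
        have e' : c = b' * ⟨m, hmC⟩ := Subtype.ext e
        change QuotientGroup.mk (π ⟨n ω, hnC ω⟩) = QuotientGroup.mk (π c)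
        rw [QuotientGroup.eq, e', map_mul, show π b' = 1 from (QuotientGroup.eq_one_iff b').2 hb',
          one_mul, ← map_inv, ← map_mul]
        refine hC (Subgroup.mem_centralizer_iff.2 ?_)
        rintro _ ⟨s, hs, rfl⟩
        rw [← map_mul, ← map_mul]
        refine congrArg π (Subtype.ext ?_)
        have h1 : phi T ((n ω)⁻¹ * ⟨m, hmN⟩) = 1 := by
          rw [map_mul, map_inv, hn' ω]
          exact inv_mul_cancel _
        exact (mem_cent.1 ((phi_eq_one_iff T _).1 h1 ⟨s, Subgroup.mem_subgroupOf.1 hs⟩)).symm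
  have hi : Tb.index ≤ p := hst ▸ Nat.card_le_card_of_surjective ψ hψ
  have hcQ : Nat.card (cent t ⧸ O) = Nat.card (T : Subgroup G) * Tb.index := by
    rw [← hcard, Subgroup.card_mul_index]
  -- the index is `1` or a prime to which `2` is coprime
  obtain ⟨m, hm⟩ := T.isPGroup'.exists_card_eq
  have hidx : Tb.index = 1 ∨ Tb.index = p := by
    by_cases h1 : Tb.index = 1
    · exact Or.inl h1
    refine Or.inr ?_
    obtain ⟨r, hr, hrd⟩ := Nat.exists_prime_and_dvd h1
    haveI := Fact.mk hr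
    obtain ⟨X, hX⟩ := exists_prime_orderOf_dvd_card' (G := (cent t ⧸ O) ⧸ Tb) r hrd
    obtain ⟨c, rfl⟩ := ((QuotientGroup.mk'_surjective Tb).comp (QuotientGroup.mk'_surjective O)) X
    have hd : r ∣ orderOf (c : G) := by
      rw [← hX, Subgroup.orderOf_coe]
      exact (orderOf_map_dvd _ _).trans (orderOf_map_dvd _ _)
    have hc1 : (c : G) ≠ 1 := fun h => by
      rw [h, orderOf_one, Nat.dvd_one] at hd; exact hr.ne_one hd
    have hr2 : r ≠ 2 := by
      rintro rfl
      have hle := S.sylow_le_cent T ht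
      have h := ((T.subtype hle).mapSurjective (f := π) (QuotientGroup.mk'_surjective _)).not_dvd_index
      exact h hrd
    have hrp : r = p := by
      rcases S.orderOf_cent (S.orderOf_mem_sylow T ht ht1) c.2 hc1 with e | e | e
      · exact absurd ((Nat.prime_dvd_prime_iff_eq hr Nat.prime_two).1 (e ▸ hd)) hr2
      · exact (Nat.prime_dvd_prime_iff_eq hr S.hp).1 (e ▸ hd)
      · exact (prime_eq_of_dvd_two_mul hr S.hp (e ▸ hd)).resolve_left hr2
    rw [hrp] at hrd
    exact le_antisymm hi (Nat.le_of_dvd (Nat.pos_of_ne_zero Subgroup.index_ne_zero_of_finite) hrd)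
  refine ⟨Tb.index, hidx, ?_, ?_, ?_⟩
  · rw [← hcQ, hA, ← Subgroup.card_mul_index O]; rfl
  · -- solutions of `x ^ p = 1`
    have hsol : solCount t p ≤ Nat.card O * Nat.card {X : cent t ⧸ O // X ^ p = 1} := by
      let g : (cent t ⧸ O) → cent t := fun X => X.out
      rw [← Nat.card_prod]
      refine Nat.card_le_card_of_injective (fun x : {x : G // x ∈ cent t ∧ x ^ p = 1} =>
        ((⟨(g (π ⟨x.1, x.2.1⟩))⁻¹ * ⟨x.1, x.2.1⟩, (QuotientGroup.eq).1 (QuotientGroup.out_eq' _)⟩ : O),
          (⟨π ⟨x.1, x.2.1⟩, by rw [← map_pow, show (⟨x.1, x.2.1⟩ : cent t) ^ p = 1 from Subtype.ext x.2.2,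
            map_one]⟩ : {X : cent t ⧸ O // X ^ p = 1}))) ?_
      intro u v h
      obtain ⟨h1, h2⟩ := Prod.ext_iff.1 h
      have h2' := congrArg Subtype.val h2
      have h1' := congrArg Subtype.val h1
      simp only at h1' h2'
      rw [h2'] at h1'
      exact Subtype.ext (congrArg Subtype.val (mul_left_cancel h1') :)
    rw [hA]
    rcases hidx with e | e
    · rw [e, Nat.sub_self, zero_mul, add_zero]
      have h1 : Nat.card {X : cent t ⧸ O // X ^ p = 1} = 1 := by
        refine Nat.card_eq_one_iff_unique.2 ⟨⟨fun X Y => ?_⟩, ⟨⟨1, one_pow p⟩⟩⟩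
        have key : ∀ Z : {X : cent t ⧸ O // X ^ p = 1}, Z.1 = 1 := fun Z => by
          have hd : orderOf Z.1 ∣ 2 ^ m := by
            rw [← hm, ← mul_one (Nat.card (T : Subgroup G)), ← e, ← hcQ]; exact orderOf_dvd_natCard _
          exact orderOf_eq_one_iff.1 (Nat.eq_one_of_dvd_coprimes
            (((Nat.coprime_primes S.hp Nat.prime_two).2 S.hp2).pow_right m)
            (orderOf_dvd_of_pow_eq_one Z.2) hd)
        exact Subtype.ext ((key X).trans (key Y).symm)
      rw [h1, mul_one] at hsol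
      omega
    · rw [e, hm]
      rw [hm, e] at hcQ
      have htb : π ⟨t, self_mem_cent t⟩ ≠ 1 := fun h => by
        have h2 : (⟨t, self_mem_cent t⟩ : cent t) ∈ O := (QuotientGroup.eq_one_iff _).1 h
        have h3 := Subgroup.orderOf_dvd_natCard _ h2
        rw [Subgroup.orderOf_mk, S.orderOf_mem_sylow T ht ht1] at h3
        exact absurd h3 (fun h4 => by
          have h5 := Nat.coprime_two_right.1 (Transfer.pPrimeCore_coprime (G := cent t) 2)
          rw [Nat.odd_iff] at h5
          change 2 ∣ Nat.card (Cfsg.pPrimeCore 2 (cent t)) at h4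
          omega)
      have hz : orderOf (π ⟨t, self_mem_cent t⟩) = 2 := by
        refine orderOf_eq_prime ?_ htb
        rw [← map_pow, show (⟨t, self_mem_cent t⟩ : cent t) ^ 2 = 1 from
          Subtype.ext (by rw [pow_two]; exact S.sylow_sq T ht), map_one]
      have h8 := S.eight_le_sylow T
      have hm1 : 1 ≤ m := Nat.pos_of_ne_zero fun h => by rw [h, pow_zero] at hm; omega
      have hb := card_solutions_le S.hp S.hp2 hcQ hm1 hz fun X => by
        induction X using QuotientGroup.induction_on with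
        | H c => exact (show π ⟨t, self_mem_cent t⟩ * π c = π c * π ⟨t, self_mem_cent t⟩ by
            rw [← map_mul, ← map_mul]; exact congrArg π (Subtype.ext (mem_cent.1 c.2).symm))
      calc 2 * solCount t p ≤ 2 * (Nat.card O * Nat.card {X : cent t ⧸ O // X ^ p = 1}) :=
            Nat.mul_le_mul_left _ hsol
        _ = Nat.card O * (2 * Nat.card {X : cent t ⧸ O // X ^ p = 1}) := by ring
        _ ≤ _ := Nat.mul_le_mul_left _ hb
  · -- conjugation fixes an element of order `p` modulo the normal `2`-subgroup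
    intro c x hbot hx hcx
    have hcomm : ∀ X Y : (cent t ⧸ O) ⧸ Tb, X * Y = Y * X := by
      rcases hidx with e | e
      · haveI : Subsingleton ((cent t ⧸ O) ⧸ Tb) := (Nat.card_eq_one_iff_unique.1 e).1
        exact fun X Y => Subsingleton.elim _ _
      · haveI := isCyclic_of_prime_card (α := (cent t ⧸ O) ⧸ Tb) (p := p) e
        intro X Y
        exact (IsCyclic.commutative (α := (cent t ⧸ O) ⧸ Tb)).is_comm.comm X Y
    have hO1 : O = ⊥ := (Subgroup.map_eq_bot_iff_of_injective _ (cent t).subtype_injective).1 hbot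
    have h1 : π (c * x * c⁻¹ * x⁻¹) ∈ Tb := by
      rw [← QuotientGroup.eq_one_iff, map_mul, map_mul, map_mul, map_inv, map_inv,
        QuotientGroup.mk_mul, QuotientGroup.mk_mul, QuotientGroup.mk_mul, QuotientGroup.mk_inv,
        QuotientGroup.mk_inv, hcomm (QuotientGroup.mk (π c)), mul_inv_cancel_right, mul_inv_cancel]
    have h2 : c * x * c⁻¹ * x⁻¹ ∈ Subgroup.zpowers x := mul_mem hcx (inv_mem (Subgroup.mem_zpowers x))
    have h3 := Subgroup.orderOf_dvd_natCard _ h2
    rw [Nat.card_zpowers, hx] at h3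
    have h4 := Subgroup.orderOf_dvd_natCard _ h1
    rw [hcard, hm] at h4
    have h5 : orderOf (π (c * x * c⁻¹ * x⁻¹)) = orderOf (c * x * c⁻¹ * x⁻¹) :=
      orderOf_injective π ((MonoidHom.ker_eq_bot_iff π).1 (by rw [hπ, QuotientGroup.ker_mk', hO1])) _
    rw [h5] at h4
    have h6 := Nat.eq_one_of_dvd_coprimes
      (((Nat.coprime_primes S.hp Nat.prime_two).2 S.hp2).pow_right m) h3 h4
    rw [orderOf_eq_one_iff, mul_inv_eq_one, mul_inv_eq_iff_eq_mul] at h6
    exact h6

/-- The contradiction. -/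
theorem false_of_spec [IsSimpleGroup G] : False := by
  classical
  haveI := Fact.mk Nat.prime_two
  haveI := Fact.mk S.hp
  obtain ⟨T⟩ : Nonempty (Sylow 2 G) := inferInstance
  obtain ⟨ω, a, ha, hfix, hω⟩ : ∃ (ω : weyl T) (a : (T : Subgroup G)), a ≠ 1 ∧
      (ω : MulAut (T : Subgroup G)) a = a ∧ ω ≠ 1 := by
    have := S.not_semiregular T
    unfold Semiregular at this
    push Not at this
    obtain ⟨ω, a, ha, h1, h2⟩ := this
    exact ⟨ω, a, ha, h1, h2⟩
  have hne : fixer T a ≠ ⊥ := fun h => hω (Subgroup.mem_bot.1 (h ▸ mem_fixer.2 hfix))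
  obtain ⟨hst, Q, hQ⟩ := S.weyl_numbers T ha hne
  have ha1 : (a : G) ≠ 1 := fun h => ha (Subtype.ext h)
  have ha2 := S.orderOf_mem_sylow T a.2 ha1
  obtain ⟨i, hi, hcard, hsol, hcm⟩ := S.cent_bound T a.2 ha1 hst
  obtain ⟨z, hz⟩ := S.exPair
  have hzp : orderOf (z ^ p) = 2 := by
    rw [orderOf_pow_of_dvd S.hp.ne_zero (hz ▸ dvd_mul_left p 2), hz, Nat.mul_div_left _ S.hp.pos]
  have hz2 : orderOf (z ^ 2) = p := by
    rw [orderOf_pow_of_dvd two_ne_zero (hz ▸ dvd_mul_right 2 p), hz,
      Nat.mul_div_cancel_left _ two_pos]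
  obtain ⟨α, hα⟩ := S.aut (z ^ p) (a : G) (hzp.trans ha2.symm)
  set x := α (z ^ 2) with hxdef
  have hx : orderOf x = p := by rw [hxdef, MulEquiv.orderOf_eq, hz2]
  have hxC : x ∈ cent (a : G) := by
    rw [mem_cent, ← hα, hxdef, ← map_mul, ← map_mul, ← pow_add, ← pow_add, add_comm]
  have hm : 2 ≤ ordCount x 2 := by
    by_cases hA : coreOf (a : G) = ⊥
    swap
    · exact (by norm_num : 2 ≤ 3).trans (S.three_le_ordCount T (S.eight_le_sylow T) a.2 ha1 hA hx)
    by_contra hlt
    push Not at hlt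
    have h1 : ordCount x 2 = 1 := by have := S.ordCount_pos hx; omega
    obtain ⟨hsub, -⟩ := Nat.card_eq_one_iff_unique.1 h1
    have huniq : ∀ s ∈ cent x, orderOf s = 2 → s = (a : G) := fun s hs hs2 =>
      congrArg Subtype.val (hsub.elim ⟨s, hs, hs2⟩ ⟨(a : G), mem_cent.2 (mem_cent.1 hxC).symm, ha2⟩)
    have hfix' : ∀ n : G, (∀ y, y ∈ cent x ↔ n * y * n⁻¹ ∈ cent x) → n ∈ cent (a : G) := fun n hn => by
      refine mem_cent.2 (mul_inv_eq_iff_eq_mul.1 (huniq _ ((hn _).1 (mem_cent.2 (mem_cent.1 hxC).symm))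
        ?_))
      exact (MulEquiv.orderOf_eq (MulAut.conj n) (a : G)).trans ha2
    have hcx : cent x ≤ cent (a : G) := fun c hc => hfix' c fun y => by
      refine ⟨fun hy => mul_mem (mul_mem hc hy) (inv_mem hc), fun hy => ?_⟩
      simpa [mul_assoc] using mul_mem (mul_mem (inv_mem hc) hy) hc
    obtain ⟨R, hR⟩ := S.exists_sylow_le_cent hx
    have hRC : (R : Subgroup G) ≤ cent (a : G) := hR.trans hcx
    have hA1 : Nat.card (coreOf (a : G)) = 1 := Subgroup.card_eq_one.2 hA
    have hxR : x ∈ (R : Subgroup G) := by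
      have h2 : IsPGroup p ((R : Subgroup G) ⊔ Subgroup.zpowers x : Subgroup G) := by
        refine IsPGroup.to_sup_of_normal_left' R.isPGroup'
          (IsPGroup.of_card (n := 1) (by rw [Nat.card_zpowers, hx, pow_one])) (Subgroup.zpowers_le.2 ?_)
        refine Subgroup.mem_normalizer_iff.2 fun y => ⟨fun hy => ?_, fun hy => ?_⟩
        · rw [mem_cent.1 (hR hy) |>.symm, mul_inv_cancel_right]; exact hy
        · have hc := mem_cent.1 (hR hy)
          have : y = x * y * x⁻¹ := by
            calc y = x⁻¹ * ((x * y * x⁻¹) * x) := by group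
              _ = x⁻¹ * (x * (x * y * x⁻¹)) := by rw [hc]
              _ = x * y * x⁻¹ := by group
          rw [this]; exact hy
      rw [← R.3 h2 le_sup_left]
      exact (le_sup_right : _ ≤ (R : Subgroup G) ⊔ Subgroup.zpowers x) (Subgroup.mem_zpowers x)
    have hRcard : Nat.card (R : Subgroup G) = p := by
      obtain ⟨k, hk⟩ := R.isPGroup'.exists_card_eq
      obtain ⟨m, hm'⟩ := T.isPGroup'.exists_card_eq
      have hd := Subgroup.card_dvd_of_le hRC
      rw [hcard, hA1, one_mul, hk, hm'] at hd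
      have hd2 : p ^ k ∣ i :=
        ((((Nat.coprime_primes S.hp Nat.prime_two).2 S.hp2).pow_left k).pow_right m).dvd_of_dvd_mul_left hd
      have h3 : p ∣ Nat.card (R : Subgroup G) := hx.symm.dvd.trans (Subgroup.orderOf_dvd_natCard _ hxR)
      have h4 : 0 < p := S.hp.pos
      refine le_antisymm ?_ (Nat.le_of_dvd Nat.card_pos h3)
      rw [hk]
      refine (Nat.le_of_dvd ?_ hd2).trans ?_
      · rcases hi with e | e <;> omega
      · rcases hi with e | e <;> omega
    have hRx : (R : Subgroup G) = Subgroup.zpowers x :=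
      (Subgroup.eq_of_le_of_card_ge (Subgroup.zpowers_le.2 hxR) (by rw [hRcard, Nat.card_zpowers, hx])).symm
    refine not_normalizer_le_centralizer R (R.ne_bot_of_dvd_card S.dvd_card.2.1) (fun h => ?_) ?_
    · have h2 := S.dvd_card.1
      rw [← Subgroup.card_top (G := G), ← h, hRcard] at h2
      exact S.hp2 ((Nat.prime_dvd_prime_iff_eq Nat.prime_two S.hp).1 h2).symm
    intro n hn
    rw [hRx] at hn ⊢
    have hna : n ∈ cent (a : G) := hfix' n fun y => by
      have key : ∀ u : G, u ∈ Subgroup.normalizer (Subgroup.zpowers x : Set G) → ∀ y ∈ cent x,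
          u * y * u⁻¹ ∈ cent x := by
        intro u hu y hy
        obtain ⟨j, hj⟩ := (Subgroup.mem_normalizer_iff.1 (inv_mem hu) x).1 (Subgroup.mem_zpowers _)
        have hc : Commute y (x ^ j) := Commute.zpow_right (mem_cent.1 hy) j
        rw [show x ^ j = u⁻¹ * x * u from by simpa using hj] at hc
        refine mem_cent.2 ?_
        calc u * y * u⁻¹ * x = u * (y * (u⁻¹ * x * u)) * u⁻¹ := by group
          _ = u * ((u⁻¹ * x * u) * y) * u⁻¹ := by rw [hc.eq]
          _ = _ := by group
      refine ⟨key n hn y, fun hy => ?_⟩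
      simpa [mul_assoc] using key n⁻¹ (inv_mem hn) _ hy
    have hconj : (⟨n, hna⟩ : cent (a : G)) * ⟨x, hxC⟩ * ⟨n, hna⟩⁻¹ ∈ Subgroup.zpowers (⟨x, hxC⟩ : cent (a : G)) := by
      obtain ⟨j, hj⟩ := (Subgroup.mem_normalizer_iff.1 hn x).1 (Subgroup.mem_zpowers _)
      exact ⟨j, Subtype.ext (by simpa using hj)⟩
    have h := hcm ⟨n, hna⟩ ⟨x, hxC⟩ hA (by rw [Subgroup.orderOf_mk]; exact hx) hconj
    rw [Subgroup.mem_centralizer_iff]
    rintro _ ⟨j, rfl⟩
    exact ((show Commute n x from congrArg Subtype.val h.eq).zpow_right j).symm.eq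
  have hX := S.card_even_le ha2
  have hn2 := S.card_inv_mul_cent T ha2
  have hP := S.card_p_mul_le hx
  have hq := S.p_card_q hQ
  have hG := S.card_le
  have hdvd := Nat.le_of_dvd Nat.card_pos S.two_p_q_dvd
  have h8 := S.eight_le_sylow T
  have hp3 := S.two_lt_p
  have hq3 := S.two_lt_q
  set nX := Nat.card {g : G // orderOf g = 2 ∨ orderOf g = 2 * p}
  set n2 := Nat.card {g : G // orderOf g = 2}
  set np := Nat.card {g : G // orderOf g = p}
  set nq := Nat.card {g : G // orderOf g = q}
  set A := Nat.card (coreOf (a : G))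
  set cT := Nat.card (T : Subgroup G)
  set N := Nat.card G
  have hA0 : 0 < A := Nat.card_pos
  have hnp : 2 * np ≤ nX := by
    have := Nat.mul_le_mul_left np hm
    omega
  have hXb : nX * (2 * (cT * i)) ≤ N * (2 + (i - 1) * cT) := by
    calc nX * (2 * (cT * i)) ≤ n2 * solCount (a : G) p * (2 * (cT * i)) := Nat.mul_le_mul_right _ hX
      _ = n2 * (2 * solCount (a : G) p) * (cT * i) := by ring
      _ ≤ n2 * (A * (2 + (i - 1) * cT)) * (cT * i) :=
          Nat.mul_le_mul_right _ (Nat.mul_le_mul_left _ hsol)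
      _ = n2 * (A * (cT * i)) * (2 + (i - 1) * cT) := by ring
      _ ≤ _ := by rw [← hcard]; exact Nat.mul_le_mul_right _ hn2
  -- `nX * 4 * p ≤ N * (2 * p - 1)` in both cases, as `8 ≤ cT`
  have hbound : 8 * (nX * (2 * p)) ≤ N * (8 * p - 6) := by
    have hkey : nX * (2 * (cT * p)) ≤ N * (2 + (p - 1) * cT) := by
      rcases hi with e | e
      · rw [e, Nat.sub_self, zero_mul, add_zero, mul_one] at hXb
        have e1 : nX * (2 * (cT * p)) = nX * (2 * cT) * p := by ring
        rw [e1]
        refine (Nat.mul_le_mul_right p hXb).trans ?_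
        rw [mul_assoc]
        refine Nat.mul_le_mul_left _ ?_
        have : (p - 1) * 8 ≤ (p - 1) * cT := Nat.mul_le_mul_left _ h8
        omega
      · rw [e] at hXb; exact hXb
    refine Nat.le_of_mul_le_mul_left ?_ (show 0 < cT by omega)
    calc cT * (8 * (nX * (2 * p))) = 8 * (nX * (2 * (cT * p))) := by ring
      _ ≤ 8 * (N * (2 + (p - 1) * cT)) := Nat.mul_le_mul_left _ hkey
      _ = N * (16 + (p - 1) * 8 * cT) := by ring
      _ ≤ N * ((8 * p - 6) * cT) := by
          refine Nat.mul_le_mul_left _ ?_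
          obtain ⟨p', rfl⟩ : ∃ p', p = p' + 1 := ⟨p - 1, by omega⟩
          rw [Nat.add_sub_cancel, show 8 * (p' + 1) - 6 = p' * 8 + 2 by omega, add_mul]
          omega
      _ = cT * (N * (8 * p - 6)) := by ring
  have hp1 : 1 ≤ 8 * p := by omega
  zify [show 6 ≤ 8 * p by omega] at hbound hG hq hdvd hnp
  nlinarith

end Spec

end CfsgLib.AutOrbits
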