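import Cfsg.Agent.Lib.AutOrbits.Fusion

/-!
# The case in which the normalizer of `T` acts semiregularly on the involutions of `T`
-/

set_option autoImplicit false
set_option linter.style.haveILetI false

namespace CfsgLib.AutOrbits

open Subgroup

variable {G : Type*} [Group G] [Finite G]

/-- Automorphisms of `T` induced by its normalizer fix no involution. -/
def Semiregular (T : Sylow 2 G) : Prop :=
  ∀ ω : weyl T, ∀ a : (T : Subgroup G), a ≠ 1 → (ω : MulAut (T : Subgroup G)) a = a → ω = 1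

namespace Spec

variable {p q : ℕ} (S : Spec G p q)
include S

theorem cent_of_semiregular {T : Sylow 2 G} (hsr : Semiregular T) {t : G}
    (ht : t ∈ (T : Subgroup G)) (ht1 : t ≠ 1) :
    Nat.card (cent t) = Nat.card (coreOf t) * Nat.card (T : Subgroup G) ∧
      solCount t p ≤ Nat.card (coreOf t) := by
  haveI := Fact.mk Nat.prime_two
  haveI := Transfer.pPrimeCore_normal 2 (cent t)
  obtain ⟨hn, hC, hcard⟩ := S.quotient_facts T ht ht1
  set π := QuotientGroup.mk' (Cfsg.oddCore (cent t)) with hπ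
  set Tb := ((T : Subgroup G).subgroupOf (cent t)).map π with hTb
  have hall : ∀ c : cent t, π c ∈ Tb := by
    intro c
    obtain ⟨a, ha, n, hnC, hnN, e⟩ := S.exists_core_mul T ht ht1 c.2
    have hfix : phi T ⟨n, hnN⟩ ⟨t, ht⟩ = ⟨t, ht⟩ := (phi_fix_iff T ⟨n, hnN⟩ ⟨t, ht⟩).2 hnC
    have h1 := hsr ⟨_, ⟨⟨n, hnN⟩, rfl⟩⟩ ⟨t, ht⟩ (fun h => ht1 (congrArg Subtype.val h)) hfix
    have h2 := (phi_eq_one_iff T ⟨n, hnN⟩).1 (congrArg Subtype.val h1)
    obtain ⟨a', ha', rfl⟩ := ha
    have e' : c = a' * ⟨n, hnC⟩ := Subtype.ext e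
    rw [e', map_mul, show π a' = 1 from (QuotientGroup.eq_one_iff a').2 ha', one_mul]
    refine hC (Subgroup.mem_centralizer_iff.2 ?_)
    rintro _ ⟨b, hb, rfl⟩
    rw [← map_mul, ← map_mul]
    exact congrArg π (Subtype.ext (mem_cent.1 (h2 ⟨b, Subgroup.mem_subgroupOf.1 hb⟩)).symm)
  have hA : Nat.card (coreOf t) = Nat.card (Cfsg.oddCore (cent t)) :=
    Subgroup.card_map_of_injective (cent t).subtype_injective
  refine ⟨?_, ?_⟩
  · have htop : Tb = ⊤ := by
      rw [Subgroup.eq_top_iff']
      exact fun x => QuotientGroup.induction_on x hall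
    rw [← hcard, htop, Subgroup.card_top, hA,
      ← Subgroup.card_mul_index (Cfsg.oddCore (cent t))]
    rfl
  · refine Nat.card_le_card_of_injective (fun x => (⟨x.1, ?_⟩ : coreOf t)) fun a b h => ?_
    · obtain ⟨x, hx, hxp⟩ := x
      refine ⟨⟨x, hx⟩, ?_, rfl⟩
      rw [SetLike.mem_coe, ← QuotientGroup.eq_one_iff]
      change π ⟨x, hx⟩ = 1
      have h1 : π ⟨x, hx⟩ ^ p = 1 := by
        rw [← map_pow, show (⟨x, hx⟩ : cent t) ^ p = 1 from Subtype.ext hxp, map_one]
      have h2 : π ⟨x, hx⟩ ^ 2 = 1 := by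
        obtain ⟨b, hb, e⟩ := hall ⟨x, hx⟩
        rw [← e, ← map_pow, pow_two, show b * b = 1 from
          Subtype.ext (S.sylow_sq T (Subgroup.mem_subgroupOf.1 hb)), map_one]
      exact orderOf_eq_one_iff.1 (Nat.eq_one_of_dvd_coprimes
        ((Nat.coprime_primes S.hp Nat.prime_two).2 S.hp2) (orderOf_dvd_of_pow_eq_one h1)
        (orderOf_dvd_of_pow_eq_one h2))
    · have := congrArg Subtype.val h; exact Subtype.ext this

/-- The number of involutions in the semiregular case. -/
theorem card_inv_mul_le {T : Sylow 2 G} (hsr : Semiregular T) {c : ℕ}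
    (hc : ∀ t : (T : Subgroup G), t ≠ 1 → Nat.card (cent (t : G)) = c) :
    Nat.card {g : G // orderOf g = 2} * c * Nat.card (weyl T) ≤
      (Nat.card (T : Subgroup G) - 1) * Nat.card G := by
  classical
  haveI := Fact.mk Nat.prime_two
  choose g hg using fun u : {g : G // orderOf g = 2} => S.conj_into T u.2
  let s : {g : G // orderOf g = 2} → (T : Subgroup G) := fun u => ⟨_, hg u⟩
  have hs : ∀ u, s u ≠ 1 := fun u h => by
    have h' : (g u)⁻¹ * u.1 * g u = 1 := congrArg Subtype.val h
    have h2 : (u.1 : G) = 1 := by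
      calc (u.1 : G) = g u * ((g u)⁻¹ * u.1 * g u) * (g u)⁻¹ := by group
        _ = 1 := by rw [h', mul_one, mul_inv_cancel]
    have h3 := u.2
    rw [h2, orderOf_one] at h3
    omega
  choose n hn using fun ω : weyl T => ω.2
  let f : (Σ u : {g : G // orderOf g = 2}, weyl T × cent ((s u : (T : Subgroup G)) : G)) →
      {a : (T : Subgroup G) // a ≠ 1} × G := fun z =>
    (⟨(z.2.1 : MulAut (T : Subgroup G)) (s z.1), fun h => hs z.1
        ((z.2.1 : MulAut (T : Subgroup G)).injective (by rw [h, map_one]))⟩,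
      g z.1 * z.2.2.1 * ((n z.2.1 : _) : G)⁻¹)
  have hf : Function.Injective f := by
    have key : ∀ z, (f z).2 * ((f z).1.1 : G) * (f z).2⁻¹ = z.1.1 := by
      rintro ⟨u, ω, c⟩
      change g u * c.1 * ((n ω : _) : G)⁻¹ * (((ω : MulAut (T : Subgroup G)) (s u) : (T : Subgroup G)) : G) *
        (g u * c.1 * ((n ω : _) : G)⁻¹)⁻¹ = u.1
      rw [show ((ω : MulAut (T : Subgroup G)) (s u)) = phi T (n ω) (s u) by rw [hn ω], phi_apply]
      calc g u * c.1 * ((n ω : _) : G)⁻¹ * ((n ω : _) * (s u : G) * ((n ω : _) : G)⁻¹) *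
            (g u * c.1 * ((n ω : _) : G)⁻¹)⁻¹
          = g u * (c.1 * (s u : G)) * c.1⁻¹ * (g u)⁻¹ := by group
        _ = g u * (s u : G) * (g u)⁻¹ := by rw [mem_cent.1 c.2]; group
        _ = u.1 := by change g u * ((g u)⁻¹ * u.1 * g u) * (g u)⁻¹ = u.1; group
    rintro ⟨u, ω, c⟩ ⟨u', ω', c'⟩ h
    obtain rfl : u = u' := Subtype.ext (by
      have h1 := key ⟨u, ω, c⟩
      have h2 := key ⟨u', ω', c'⟩
      rw [h] at h1
      exact h1.symm.trans h2)
    have h1 := congrArg (fun z : {a : (T : Subgroup G) // a ≠ 1} × G => z.1.1) h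
    obtain rfl : ω = ω' := by
      refine (inv_mul_eq_one.1 (hsr (ω⁻¹ * ω') (s u) (hs u) ?_))
      rw [Subgroup.coe_mul, Subgroup.coe_inv, MulAut.mul_apply]
      simp only [f] at h1
      rw [← h1, MulAut.inv_apply_self]
    have h2 := congrArg (fun z : {a : (T : Subgroup G) // a ≠ 1} × G => z.2) h
    simp only [f] at h2
    obtain rfl : c = c' := Subtype.ext (mul_left_cancel (mul_right_cancel h2))
    rfl
  have hle := Nat.card_le_card_of_injective f hf
  haveI := Fintype.ofFinite {g : G // orderOf g = 2}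
  haveI := Fintype.ofFinite (T : Subgroup G)
  rw [Nat.card_sigma, Nat.card_prod] at hle
  rw [Finset.sum_congr rfl (fun u _ => by rw [Nat.card_prod, hc (s u) (hs u)]), Finset.sum_const,
    smul_eq_mul, Finset.card_univ, ← Nat.card_eq_fintype_card] at hle
  calc _ = Nat.card {g : G // orderOf g = 2} * (Nat.card (weyl T) * c) := by ring
    _ ≤ _ := hle
    _ = _ := by
      congr 1
      rw [Nat.card_eq_fintype_card, Fintype.card_subtype_compl, Fintype.card_subtype_eq,
        ← Nat.card_eq_fintype_card]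

theorem involutions_aut (T : Sylow 2 G) {a b : (T : Subgroup G)} (ha : a ≠ 1) (hb : b ≠ 1) :
    ∃ α : MulAut G, α (a : G) = (b : G) :=
  S.aut _ _ ((S.orderOf_mem_sylow T a.2 fun h => ha (Subtype.ext h)).trans
    (S.orderOf_mem_sylow T b.2 fun h => hb (Subtype.ext h)).symm)

/-- The semiregular case is impossible. -/
theorem not_semiregular [IsSimpleGroup G] (T : Sylow 2 G) : ¬ Semiregular T := by
  intro hsr
  classical
  have h4 := S.four_le_sylow T
  have hw := S.three_le_weyl T
  haveI : Nontrivial (T : Subgroup G) := (Subgroup.nontrivial_iff_ne_bot _).2 (S.sylow_ne_bot T)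
  obtain ⟨t0, ht0⟩ := exists_ne (1 : (T : Subgroup G))
  have ht01 : (t0 : G) ≠ 1 := fun h => ht0 (Subtype.ext h)
  obtain ⟨hC, hsol⟩ := S.cent_of_semiregular hsr t0.2 ht01
  have hcount := S.card_inv_mul_le hsr (c := Nat.card (cent (t0 : G))) fun t ht => by
    obtain ⟨α, hα⟩ := S.involutions_aut T ht0 ht
    rw [← hα, card_cent_apply]
  have ht02 := S.orderOf_mem_sylow T t0.2 ht01
  have hX := S.card_even_le ht02
  obtain ⟨x, hx⟩ := S.exP
  have hP := S.card_p_mul_le hx
  have hm := S.ordCount_pos hx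
  have hQ := S.two_card_q
  have hG := S.card_le
  set nX := Nat.card {g : G // orderOf g = 2 ∨ orderOf g = 2 * p}
  set n2 := Nat.card {g : G // orderOf g = 2}
  set np := Nat.card {g : G // orderOf g = p}
  set nq := Nat.card {g : G // orderOf g = q}
  set A := Nat.card (coreOf (t0 : G))
  set cT := Nat.card (T : Subgroup G) with hcT
  set w := Nat.card (weyl T)
  set m := ordCount x 2
  have hXb : nX * (cT * w) ≤ (cT - 1) * Nat.card G := by
    calc nX * (cT * w) ≤ (n2 * solCount (t0 : G) p) * (cT * w) := Nat.mul_le_mul_right _ hX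
      _ ≤ (n2 * A) * (cT * w) := Nat.mul_le_mul_right _ (Nat.mul_le_mul_left _ hsol)
      _ = n2 * (A * cT) * w := by ring
      _ ≤ _ := by rw [← hC]; exact hcount
  have h3X : nX * (cT * 3) ≤ (cT - 1) * Nat.card G :=
    le_trans (Nat.mul_le_mul_left _ (Nat.mul_le_mul_left _ hw)) hXb
  have hGpos : 0 < Nat.card G := Nat.card_pos
  rcases Nat.lt_or_ge cT 8 with h8 | h8
  · have hcard : cT = 4 := by
      haveI := Fact.mk Nat.prime_two
      obtain ⟨k, hk⟩ := T.isPGroup'.exists_card_eq
      rw [← hcT] at hk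
      have : k < 3 := by
        by_contra hk3
        have := Nat.pow_le_pow_right two_pos (show 3 ≤ k by omega)
        omega
      interval_cases k <;> omega
    rw [hcard] at h3X
    have hnp : np ≤ nX := by
      have := Nat.le_mul_of_pos_right np hm
      omega
    omega
  · have hA : coreOf (t0 : G) ≠ ⊥ := by
      obtain ⟨z, hz⟩ := S.exPair
      obtain ⟨α, hα⟩ := S.aut (z ^ p) (t0 : G) (by
        rw [orderOf_pow_of_dvd S.hp.ne_zero (hz ▸ dvd_mul_left p 2), hz,
          Nat.mul_div_left _ S.hp.pos, ht02])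
      intro hbot
      have h1 : solCount (t0 : G) p ≤ 1 := le_trans hsol (by rw [show A = 1 from Subgroup.card_eq_one.2 hbot])
      rw [← hα, solCount_apply] at h1
      have h2 : 2 ≤ solCount (z ^ p) p := by
        have hz2 : (z ^ 2) ^ p = 1 := by rw [← pow_mul, ← hz, pow_orderOf_eq_one]
        have hne : z ^ 2 ≠ 1 := fun h => by
          have := Nat.le_of_dvd two_pos (hz ▸ orderOf_dvd_of_pow_eq_one h)
          have := S.two_lt_p
          omega
        have : Nontrivial {w : G // w ∈ cent (z ^ p) ∧ w ^ p = 1} :=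
          ⟨⟨⟨1, one_mem _, one_pow p⟩, ⟨z ^ 2, mem_cent.2 (by rw [← pow_add, ← pow_add, add_comm]), hz2⟩,
            fun h => hne (congrArg Subtype.val h).symm⟩⟩
        exact Finite.one_lt_card
      omega
    have hm3 := S.three_le_ordCount T h8 t0.2 ht01 hA hx
    have hnp : 3 * np ≤ nX := by
      have := Nat.mul_le_mul_left np hm3
      change np * 3 ≤ np * m at this
      omega
    have hX3 : nX * 3 < Nat.card G := by
      by_contra hge
      push Not at hge
      have h := Nat.mul_le_mul_right cT hge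
      have e : nX * 3 * cT = nX * (cT * 3) := by ring
      rw [e] at h
      have h' := le_trans h h3X
      rw [mul_comm (cT - 1)] at h'
      have := Nat.le_of_mul_le_mul_left h' hGpos
      omega
    omega

end Spec

end CfsgLib.AutOrbits
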