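import Cfsg.Agent.Lib.AutOrbits.Semiregular
import Cfsg.Agent.Lib.Invol.Dihedral
import Cfsg.Agent.S0217

/-!
# One class of involutions

If the normalizer of `T` is not semiregular, the solvable signalizer functor theorem gives a
proper subgroup containing the centralizers of all involutions of `T`, so that the involutions
form one class.
-/

set_option autoImplicit false
set_option linter.style.haveILetI false

namespace CfsgLib.AutOrbits

open Subgroup

variable {G : Type*} [Group G] [Finite G]

namespace Spec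

variable {p q : ℕ} (S : Spec G p q)
include S

theorem eight_le_sylow [IsSimpleGroup G] (T : Sylow 2 G) : 8 ≤ Nat.card (T : Subgroup G) := by
  classical
  haveI := Fact.mk Nat.prime_two
  have h4 := S.four_le_sylow T
  by_contra h8
  push Not at h8
  obtain ⟨k, hk⟩ := T.isPGroup'.exists_card_eq
  have hk2 : k = 2 := by
    have h3 : k < 3 := by
      by_contra hk3
      have := Nat.pow_le_pow_right two_pos (show 3 ≤ k by omega)
      omega
    interval_cases k <;> omega
  rw [hk2] at hk
  refine S.not_semiregular T fun ω a ha hfix => ?_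
  haveI := Fintype.ofFinite (T : Subgroup G)
  set f := (ω : MulAut (T : Subgroup G)) with hf
  obtain ⟨b, hb⟩ : ∃ b : (T : Subgroup G), b ∉ ({1, a} : Finset (T : Subgroup G)) := by
    by_contra hno
    push Not at hno
    have h1 : (Finset.univ : Finset (T : Subgroup G)) ⊆ {1, a} := fun x _ => hno x
    have h2 := (Finset.card_le_card h1).trans Finset.card_le_two
    rw [Finset.card_univ, ← Nat.card_eq_fintype_card, hk] at h2
    omega
  simp only [Finset.mem_insert, Finset.mem_singleton, not_or] at hb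
  have haa : a * a = 1 := Subtype.ext (S.sylow_sq T a.2)
  have hbb : b * b = 1 := Subtype.ext (S.sylow_sq T b.2)
  have hall : ∀ x : (T : Subgroup G), x = 1 ∨ x = a ∨ x = b ∨ x = a * b := by
    intro x
    by_contra hx
    simp only [not_or] at hx
    have hab1 : a * b ≠ 1 := fun h => hb.2 ((mul_eq_one_iff_eq_inv.1 h).trans
      (inv_eq_of_mul_eq_one_right hbb) ▸ rfl)
    have hcard : ({1, a, b, a * b, x} : Finset (T : Subgroup G)).card = 5 := by
      rw [Finset.card_insert_of_notMem, Finset.card_insert_of_notMem, Finset.card_insert_of_notMem,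
        Finset.card_insert_of_notMem, Finset.card_singleton]
      · simp only [Finset.mem_singleton]; exact Ne.symm hx.2.2.2
      · simp only [Finset.mem_insert, Finset.mem_singleton, not_or]
        exact ⟨fun h => ha (right_eq_mul.1 h), Ne.symm hx.2.2.1⟩
      · simp only [Finset.mem_insert, Finset.mem_singleton, not_or]
        exact ⟨Ne.symm hb.2, fun h => hb.1 (left_eq_mul.1 h), Ne.symm hx.2.1⟩
      · simp only [Finset.mem_insert, Finset.mem_singleton, not_or]
        exact ⟨Ne.symm ha, Ne.symm hb.1, Ne.symm hab1, Ne.symm hx.1⟩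
    have := Finset.card_le_univ ({1, a, b, a * b, x} : Finset (T : Subgroup G))
    rw [← Nat.card_eq_fintype_card, hk, hcard] at this
    omega
  have hsq : f * f = 1 := by
    have hfb : f b = b ∨ f b = a * b := by
      rcases hall (f b) with e | e | e | e
      · exact absurd (f.injective (by rw [e, map_one])) hb.1
      · exact absurd (f.injective (e.trans hfix.symm)) hb.2
      · exact Or.inl e
      · exact Or.inr e
    have hffb : f (f b) = b := by
      rcases hfb with e | e
      · rw [e, e]
      · rw [e, map_mul, hfix, e, ← mul_assoc, haa, one_mul]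
    ext x
    rw [MulAut.mul_apply, MulAut.one_apply]
    rcases hall x with rfl | rfl | rfl | rfl
    · simp
    · rw [hfix, hfix]
    · rw [hffb]
    · rw [map_mul, map_mul, hfix, hfix, hffb]
  have h1 : orderOf ω ∣ 2 := orderOf_dvd_of_pow_eq_one (by rw [pow_two]; exact Subtype.ext hsq)
  exact orderOf_eq_one_iff.1 (Nat.eq_one_of_dvd_coprimes (Nat.coprime_two_right.2 (S.odd_weyl T))
    (orderOf_dvd_natCard ω) h1)

/-- A proper subgroup contains the centralizers of all involutions of `T`. -/
theorem exists_control [IsSimpleGroup G] (T : Sylow 2 G) :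
    ∃ M : Subgroup G, M ≠ ⊤ ∧ (T : Subgroup G) ≤ M ∧
      ∀ t ∈ (T : Subgroup G), t ≠ 1 → cent t ≤ M := by
  haveI := Fact.mk Nat.prime_two
  have hsig := Cfsg.Agent.S0217.result (p := 2) (T : Subgroup G) (fun a ha b hb => S.sylow_comm T ha hb)
    (fun a ha => by rw [pow_two]; exact S.sylow_sq T ha) (S.eight_le_sylow T) coreOf
    (fun a _ _ => coreOf_le a)
    (fun a _ _ h => by
      have := Nat.odd_iff.1 (odd_coreOf a)
      omega)
    (fun a ha _ b hb x hx => conj_mem_coreOf (S.sylow_le_cent T ha hb) hx)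
    (fun a ha ha1 => by
      haveI := S.solvable_cent (S.orderOf_mem_sylow T ha ha1)
      exact Group.isSolvable_of_isSolvable_injective (Subgroup.inclusion_injective (coreOf_le a)))
    (fun a ha ha1 b hb hb1 => S.le_coreOf T hb hb1 inf_le_right
      ((odd_coreOf a).of_dvd_nat (Subgroup.card_dvd_of_le inf_le_left)) fun c hc x hx =>
        Subgroup.mem_inf.2 ⟨conj_mem_coreOf (S.sylow_le_cent T ha hc) (Subgroup.mem_inf.1 hx).1,
          mul_mem (mul_mem (S.sylow_le_cent T hb hc) (Subgroup.mem_inf.1 hx).2)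
            (inv_mem (S.sylow_le_cent T hb hc))⟩)
  set Θ := ⨆ a : {a : G // a ∈ (T : Subgroup G) ∧ a ≠ 1}, coreOf a.1 with hΘ
  have hle : ∀ t ∈ (T : Subgroup G), t ≠ 1 → coreOf t ≤ Θ := fun t ht ht1 =>
    le_iSup (fun a : {a : G // a ∈ (T : Subgroup G) ∧ a ≠ 1} => coreOf a.1) ⟨t, ht, ht1⟩
  set N := Subgroup.normalizer ((T : Subgroup G) : Set G) with hN
  have hNΘ : N ≤ Subgroup.normalizer (Θ : Set G) := by
    have hmap : ∀ n ∈ N, Θ.map (MulAut.conj n).toMonoidHom ≤ Θ := by
      intro n hn
      rw [hΘ, Subgroup.map_iSup]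
      refine iSup_le fun a => ?_
      rw [map_coreOf]
      refine hle _ ((Subgroup.mem_normalizer_iff.1 hn a.1).1 a.2.1) fun h => a.2.2 ?_
      exact (MulAut.conj n).injective (h.trans (map_one _).symm)
    intro n hn
    refine Subgroup.mem_normalizer_iff.2 fun x =>
      ⟨fun hx => hmap n hn ⟨x, hx, rfl⟩, fun hx => ?_⟩
    have := hmap n⁻¹ (inv_mem hn) ⟨_, hx, rfl⟩
    simpa [MulAut.conj_apply, mul_assoc] using this
  have hcent : ∀ (M : Subgroup G), Θ ≤ M → N ≤ M → ∀ t ∈ (T : Subgroup G), t ≠ 1 → cent t ≤ M := by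
    intro M h1 h2 t ht ht1 c hc
    obtain ⟨a, ha, n, -, hn, rfl⟩ := S.exists_core_mul T ht ht1 hc
    exact mul_mem (h1 (hle t ht ht1 ha)) (h2 hn)
  by_cases hbot : Θ = ⊥
  · refine ⟨N, ?_, Subgroup.le_normalizer, hcent N (hbot ▸ bot_le) le_rfl⟩
    intro htop
    haveI := Subgroup.normalizer_eq_top_iff.1 htop
    rcases Subgroup.Normal.eq_bot_or_eq_top (H := (T : Subgroup G)) inferInstance with e | e
    · exact S.sylow_ne_bot T e
    · exact S.sylow_ne_top T e
  · refine ⟨Subgroup.normalizer (Θ : Set G), ?_, Subgroup.le_normalizer.trans hNΘ,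
      hcent _ Subgroup.le_normalizer hNΘ⟩
    intro htop
    haveI := Subgroup.normalizer_eq_top_iff.1 htop
    rcases Subgroup.Normal.eq_bot_or_eq_top (H := Θ) inferInstance with e | e
    · exact hbot e
    · exact hsig.1 (by rw [e, Subgroup.card_top]; exact S.dvd_card.1)

/-- All involutions are conjugate. -/
theorem isConj_invol [IsSimpleGroup G] (T : Sylow 2 G) {s u : G} (hs : orderOf s = 2)
    (hu : orderOf u = 2) : IsConj s u := by
  haveI := Fact.mk Nat.prime_two
  obtain ⟨M, hM, hTM, hCM⟩ := S.exists_control T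
  have hinM : ∀ v : G, orderOf v = 2 → v ∈ M → cent v ≤ M := by
    intro v hv hvM
    obtain ⟨R, hR⟩ : ∃ R : Sylow 2 M, Subgroup.zpowers (⟨v, hvM⟩ : M) ≤ R :=
      (IsPGroup.of_card (p := 2) (n := 1) (by
        rw [Nat.card_zpowers, Subgroup.orderOf_mk, hv, pow_one])).exists_le_sylow
    obtain ⟨m, hm⟩ := MulAction.exists_smul_eq M R (T.subtype hTM)
    have hmem : (m : G) * v * (m : G)⁻¹ ∈ (T : Subgroup G) := by
      have h1 : m * (⟨v, hvM⟩ : M) * m⁻¹ ∈ ((m • R : Sylow 2 M) : Subgroup M) := by
        rw [Sylow.coe_subgroup_smul, Subgroup.mem_pointwise_smul_iff_inv_smul_mem]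
        have := hR (Subgroup.mem_zpowers (⟨v, hvM⟩ : M))
        simpa [MulAut.smul_def, mul_assoc] using this
      rw [hm, Sylow.coe_subtype] at h1
      exact Subgroup.mem_subgroupOf.1 h1
    have hne : (m : G) * v * (m : G)⁻¹ ≠ 1 := fun h => by
      rw [conj_eq_one_iff] at h
      rw [h, orderOf_one] at hv
      omega
    intro c hc
    have h1 : (m : G) * c * (m : G)⁻¹ ∈ M := hCM _ hmem hne (mem_cent.2 (by
      calc (m : G) * c * (m : G)⁻¹ * ((m : G) * v * (m : G)⁻¹) = m * (c * v) * (m : G)⁻¹ := by group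
        _ = m * (v * c) * (m : G)⁻¹ := by rw [mem_cent.1 hc]
        _ = _ := by group))
    have := mul_mem (mul_mem (inv_mem m.2) h1) m.2
    simpa [mul_assoc] using this
  obtain ⟨w, hw, hwM⟩ : ∃ w : G, orderOf w = 2 ∧ w ∉ M := by
    by_contra hno
    push Not at hno
    let C := Subgroup.closure {g : G | orderOf g = 2}
    haveI : C.Normal := ⟨fun x hx g => by
      have h : C.map (MulAut.conj g).toMonoidHom ≤ C := by
        rw [MonoidHom.map_closure, Subgroup.closure_le]
        rintro _ ⟨y, hy, rfl⟩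
        exact Subgroup.subset_closure (by
          change orderOf ((MulAut.conj g) y) = 2
          rw [MulEquiv.orderOf_eq]; exact hy)
      exact h ⟨x, hx, rfl⟩⟩
    rcases Subgroup.Normal.eq_bot_or_eq_top (H := C) inferInstance with e | e
    · have : s ∈ C := Subgroup.subset_closure hs
      rw [e, Subgroup.mem_bot] at this
      rw [this, orderOf_one] at hs
      omega
    · exact hM (top_le_iff.1 (e ▸ (Subgroup.closure_le M).2 fun g hg => hno g hg))
  have hout : ∀ a b : G, orderOf a = 2 → orderOf b = 2 → a ∈ M → b ∉ M → IsConj a b := by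
    intro a b ha hb haM hbM
    refine Invol.isConj_of_odd ha hb (Nat.not_even_iff_odd.1 fun hev => hbM ?_)
    obtain ⟨k, hk⟩ := hev
    have hpos := orderOf_pos (a * b)
    set z := (a * b) ^ k with hz
    have hzo : orderOf z = 2 := by
      rw [hz, orderOf_pow_of_dvd (by omega) ⟨2, by omega⟩, Nat.div_eq_of_eq_mul_left (by omega)]
      omega
    have haa : a * a = 1 := by rw [← pow_two, ← ha, pow_orderOf_eq_one]
    have hbb : b * b = 1 := by rw [← pow_two, ← hb, pow_orderOf_eq_one]
    have hzi : z⁻¹ = z := inv_eq_of_mul_eq_one_right (by rw [← pow_two, ← hzo, pow_orderOf_eq_one])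
    have hca : z * a = a * z := by
      have h1 : a * (a * b) * a⁻¹ = (a * b)⁻¹ := by
        rw [mul_inv_rev, inv_eq_of_mul_eq_one_right haa, inv_eq_of_mul_eq_one_right hbb,
          ← mul_assoc, haa, one_mul]
      have h2 : a * z * a⁻¹ = z := by rw [hz, ← conj_pow, h1, inv_pow, ← hz, hzi]
      exact (mul_inv_eq_iff_eq_mul.1 h2).symm
    have hzM : z ∈ M := hinM a ha haM (mem_cent.2 hca)
    have hab : (a * b) * z = z * (a * b) := by rw [hz, ← pow_succ, ← pow_succ']
    refine hinM z hzo hzM (mem_cent.2 ?_)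
    calc b * z = a * (a * b * z) := by rw [← mul_assoc, ← mul_assoc, haa, one_mul]
      _ = a * (z * (a * b)) := by rw [hab]
      _ = (a * z) * a * b := by group
      _ = (z * a) * a * b := by rw [hca]
      _ = z * b := by rw [mul_assoc z, haa, mul_one]
  haveI : Nontrivial (T : Subgroup G) := (Subgroup.nontrivial_iff_ne_bot _).2 (S.sylow_ne_bot T)
  obtain ⟨t0, ht0⟩ := exists_ne (1 : (T : Subgroup G))
  have ht02 : orderOf (t0 : G) = 2 := S.orderOf_mem_sylow T t0.2 fun h => ht0 (Subtype.ext h)
  have key : ∀ a : G, orderOf a = 2 → IsConj (t0 : G) a := fun a ha => by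
    by_cases haM : a ∈ M
    · exact (hout _ w ht02 hw (hTM t0.2) hwM).trans (hout a w ha hw haM hwM).symm
    · exact hout _ a ht02 ha (hTM t0.2) haM
  exact (key s hs).symm.trans (key u hu)

/-- The normalizer of `T` is transitive on its involutions. -/
theorem weyl_transitive [IsSimpleGroup G] (T : Sylow 2 G) {a b : (T : Subgroup G)} (ha : a ≠ 1)
    (hb : b ≠ 1) : ∃ ω : weyl T, (ω : MulAut (T : Subgroup G)) a = b := by
  obtain ⟨g, hg⟩ := isConj_iff.1 (S.isConj_invol T
    (S.orderOf_mem_sylow T a.2 fun h => ha (Subtype.ext h))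
    (S.orderOf_mem_sylow T b.2 fun h => hb (Subtype.ext h)))
  exact S.fusion T (g := g⁻¹) (by rw [inv_inv, hg])

/-- The number of involutions times the order of an involution centralizer is at most `|G|`. -/
theorem card_inv_mul_cent [IsSimpleGroup G] (T : Sylow 2 G) {t : G} (ht : orderOf t = 2) :
    Nat.card {g : G // orderOf g = 2} * Nat.card (cent t) ≤ Nat.card G := by
  choose g hg using fun u : {g : G // orderOf g = 2} => isConj_iff.1 (S.isConj_invol T ht u.2)
  rw [← Nat.card_prod]
  refine Nat.card_le_card_of_injective (fun z => g z.1 * z.2.1) ?_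
  rintro ⟨u, c⟩ ⟨u', c'⟩ h
  have hk : ∀ (v : {g : G // orderOf g = 2}) (d : cent t), g v * d.1 * t * (g v * d.1)⁻¹ = v.1 := by
    intro v d
    calc g v * d.1 * t * (g v * d.1)⁻¹ = g v * (d.1 * t) * d.1⁻¹ * (g v)⁻¹ := by group
      _ = g v * t * (g v)⁻¹ := by rw [mem_cent.1 d.2]; group
      _ = v.1 := hg v
  simp only at h
  obtain rfl : u = u' := Subtype.ext (by rw [← hk u c, h, hk u' c'])
  obtain rfl : c = c' := Subtype.ext (mul_left_cancel h)
  rfl

end Spec

end CfsgLib.AutOrbits
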