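import Cfsg.Agent.Lib.AutOrbits.Basic
import Cfsg.Agent.Lib.AutOrbits.Fpf
import Cfsg.Agent.Lib.Invol.SolvableCore

/-!
# The centralizers of involutions
-/

set_option autoImplicit false
set_option linter.style.haveILetI false

namespace CfsgLib.AutOrbits

open Subgroup

variable {G : Type*} [Group G] [Finite G]

/-- The odd core of the centralizer of `t`. -/
noncomputable def coreOf (t : G) : Subgroup G := (Cfsg.oddCore (cent t)).map (cent t).subtype

theorem coreOf_le (t : G) : coreOf t ≤ cent t := Subgroup.map_subtype_le _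

theorem odd_coreOf (t : G) : Odd (Nat.card (coreOf t)) := by
  rw [coreOf, Subgroup.card_map_of_injective (cent t).subtype_injective]
  exact Nat.coprime_two_right.1 (Transfer.pPrimeCore_coprime 2)

theorem conj_mem_coreOf {t c a : G} (hc : c ∈ cent t) (ha : a ∈ coreOf t) :
    c * a * c⁻¹ ∈ coreOf t := by
  obtain ⟨b, hb, rfl⟩ := ha
  haveI := Transfer.pPrimeCore_normal 2 (cent t)
  exact ⟨⟨c, hc⟩ * b * ⟨c, hc⟩⁻¹, Subgroup.Normal.conj_mem inferInstance b hb _, rfl⟩

theorem map_coreOf (α : MulAut G) (t : G) : (coreOf t).map α.toMonoidHom = coreOf (α t) := by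
  let e : cent t ≃* cent (α t) :=
    ((cent t).equivMapOfInjective _ α.injective).trans (MulEquiv.subgroupCongr (map_cent α t))
  have he : (cent (α t)).subtype.comp e.toMonoidHom = α.toMonoidHom.comp (cent t).subtype := by
    ext x; rfl
  rw [coreOf, coreOf, Cfsg.oddCore, Cfsg.oddCore, ← PSolvable.map_equiv_pPrimeCore (p := 2) e,
    Subgroup.map_map, Subgroup.map_map, he]

namespace Spec

variable {p q : ℕ} (S : Spec G p q)
include S

theorem sylow_sq (T : Sylow 2 G) {a : G} (ha : a ∈ (T : Subgroup G)) : a * a = 1 := by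
  haveI := Fact.mk Nat.prime_two
  obtain ⟨k, hk⟩ := IsPGroup.iff_orderOf.1 T.isPGroup' ⟨a, ha⟩
  rw [Subgroup.orderOf_mk] at hk
  exact S.sq_eq_one_of_pow_two hk

theorem sylow_comm (T : Sylow 2 G) {a b : G} (ha : a ∈ (T : Subgroup G)) (hb : b ∈ (T : Subgroup G)) :
    a * b = b * a := by
  have h := S.sylow_sq T (T.mul_mem ha hb)
  calc a * b = a * ((a * b) * (a * b)) * b := by rw [h, mul_one]
    _ = (a * a) * (b * a) * (b * b) := by group
    _ = b * a := by rw [S.sylow_sq T ha, S.sylow_sq T hb, one_mul, mul_one]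

theorem orderOf_mem_sylow (T : Sylow 2 G) {a : G} (ha : a ∈ (T : Subgroup G)) (h1 : a ≠ 1) :
    orderOf a = 2 :=
  orderOf_eq_prime (by rw [pow_two]; exact S.sylow_sq T ha) h1

theorem sylow_le_cent (T : Sylow 2 G) {t : G} (ht : t ∈ (T : Subgroup G)) :
    (T : Subgroup G) ≤ cent t := fun _ ha => mem_cent.2 (S.sylow_comm T ha ht)

theorem orderOf_cent {t x : G} (ht : orderOf t = 2) (hx : x ∈ cent t) (hx1 : x ≠ 1) :
    orderOf x = 2 ∨ orderOf x = p ∨ orderOf x = 2 * p := by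
  rcases S.cases_ne_one hx1 with e | e | e | e
  · exact Or.inl e
  · exact Or.inr (Or.inl e)
  · exact absurd (S.not_commute_q e Nat.prime_two ht (mem_cent.1 hx).symm) (Ne.symm S.hq2)
  · exact Or.inr (Or.inr e)

theorem orderOf_odd_cent {t x : G} (ht : orderOf t = 2) (hx : x ∈ cent t) (hx1 : x ≠ 1)
    (hodd : Odd (orderOf x)) : orderOf x = p := by
  rcases S.orderOf_cent ht hx hx1 with e | e | e
  · rw [e] at hodd; exact absurd hodd (by decide)
  · exact e
  · rw [e] at hodd; exact absurd hodd (by simp)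

theorem solvable_cent {t : G} (ht : orderOf t = 2) : Group.IsSolvable (cent t) := by
  refine Cfsg.Agent.S0144.result 2 p ((Nat.card (cent t)).factorization 2)
    ((Nat.card (cent t)).factorization p) Nat.prime_two S.hp ?_
  conv_lhs => rw [← Nat.prod_factorization_pow_eq_self (Nat.card_pos (α := cent t)).ne',
    Nat.prod_factorization_eq_prod_primeFactors]
  rw [Finset.prod_subset (s₂ := ({2, p} : Finset ℕ)) ?_ ?_, Finset.prod_pair (Ne.symm S.hp2)]
  · intro r hr
    have hrp := Nat.prime_of_mem_primeFactors hr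
    haveI := Fact.mk hrp
    obtain ⟨c, hc⟩ := exists_prime_orderOf_dvd_card' r (Nat.dvd_of_mem_primeFactors hr)
    rw [← Subgroup.orderOf_coe] at hc
    have hc1 : (c : G) ≠ 1 := fun h => by rw [h, orderOf_one] at hc; exact hrp.ne_one hc.symm
    rcases S.orderOf_cent ht c.2 hc1 with e | e | e <;> rw [hc] at e
    · simp [e]
    · simp [e]
    · rcases prime_eq_of_dvd_two_mul hrp S.hp e.dvd with e' | e' <;> simp [e']
  · intro r hr hnr
    by_cases h0 : (Nat.card (cent t)).factorization r = 0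
    · rw [h0, pow_zero]
    · exact absurd (Nat.mem_primeFactors.2 ⟨Nat.prime_of_mem_primeFactors
        (by simpa [← Nat.support_factorization] using h0), Nat.dvd_of_factorization_pos h0,
        Nat.card_pos.ne'⟩) hnr

/-- The quotient of the centralizer by its core has the image of `T` as a normal self-centralizing
subgroup. -/
theorem quotient_facts (T : Sylow 2 G) {t : G} (ht : t ∈ (T : Subgroup G)) (ht1 : t ≠ 1) :
    let π := QuotientGroup.mk' (Cfsg.oddCore (cent t))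
    let Tb := ((T : Subgroup G).subgroupOf (cent t)).map π
    Tb.Normal ∧ Subgroup.centralizer (Tb : Set (cent t ⧸ Cfsg.oddCore (cent t))) ≤ Tb ∧
      Nat.card Tb = Nat.card (T : Subgroup G) := by
  intro π Tb
  haveI := Fact.mk Nat.prime_two
  haveI := Transfer.pPrimeCore_normal 2 (cent t)
  have hle := S.sylow_le_cent T ht
  have hodd : Odd (Nat.card (Cfsg.oddCore (cent t))) :=
    Nat.coprime_two_right.1 (Transfer.pPrimeCore_coprime 2)
  have hker : ∀ a ∈ (T : Subgroup G).subgroupOf (cent t), π a = 1 → a = 1 := by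
    intro a ha h
    have h1 : a * a = 1 := Subtype.ext (S.sylow_sq T (Subgroup.mem_subgroupOf.1 ha))
    have h2 : a ∈ Cfsg.oddCore (cent t) := (QuotientGroup.eq_one_iff a).1 h
    have h3 : orderOf a ∣ 2 := orderOf_dvd_of_pow_eq_one (by rw [pow_two]; exact h1)
    exact orderOf_eq_one_iff.1 (Nat.eq_one_of_dvd_coprimes (Nat.coprime_two_right.2 hodd)
      (Subgroup.orderOf_dvd_natCard _ h2) h3)
  have hcard : Nat.card Tb = Nat.card (T : Subgroup G) := by
    rw [← Nat.card_congr (Subgroup.subgroupOfEquivOfLe hle).toEquiv]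
    refine (Nat.card_congr (Equiv.ofBijective
      (fun a : (T : Subgroup G).subgroupOf (cent t) => (⟨π a, a.1, a.2, rfl⟩ : Tb)) ⟨?_, ?_⟩)).symm
    · intro a b h
      have h' := congrArg Subtype.val h
      simp only at h'
      exact Subtype.ext (inv_mul_eq_one.1 (hker _ (mul_mem (inv_mem a.2) b.2)
        (by rw [map_mul, map_inv, h', inv_mul_cancel])))
    · rintro ⟨_, a, ha, rfl⟩
      exact ⟨⟨a, ha⟩, rfl⟩
  -- the `2`-core is the image of `T`
  have hC := Invol.solvable_centralizer_core_le (S.solvable_cent (S.orderOf_mem_sylow T ht ht1))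
  set P2 := Cfsg.pCore 2 (cent t ⧸ Cfsg.oddCore (cent t)) with hP2
  haveI hP2n : P2.Normal := Subgroup.sSup_normal _ fun N hN => hN.1
  have hP2p : IsPGroup 2 P2 := Sylow.sSup_of_normal _ (fun N hN => hN.2) fun N hN => hN.1
  let Ts : Sylow 2 (cent t ⧸ Cfsg.oddCore (cent t)) :=
    (T.subtype hle).mapSurjective (f := π) (QuotientGroup.mk'_surjective _)
  have hTs : (Ts : Subgroup (cent t ⧸ Cfsg.oddCore (cent t))) = Tb := rfl
  have hP2T : P2 ≤ Tb := hTs ▸ hP2p.le_sylow_of_normal Ts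
  have hTP2 : Tb ≤ P2 := by
    rintro _ ⟨a, ha, rfl⟩
    refine hC (Subgroup.mem_centralizer_iff.2 fun w hw => ?_)
    obtain ⟨b, hb, rfl⟩ := hP2T hw
    rw [← map_mul, ← map_mul]
    exact congrArg π (Subtype.ext (S.sylow_comm T (Subgroup.mem_subgroupOf.1 hb)
      (Subgroup.mem_subgroupOf.1 ha)))
  have e : Tb = P2 := le_antisymm hTP2 hP2T
  exact ⟨e ▸ hP2n, e ▸ hC, hcard⟩

/-- An odd subgroup of `C(t)` normalised by `T` lies in the core. -/
theorem le_coreOf (T : Sylow 2 G) {t : G} (ht : t ∈ (T : Subgroup G)) (ht1 : t ≠ 1) {X : Subgroup G}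
    (hX : X ≤ cent t) (hodd : Odd (Nat.card X))
    (hnorm : ∀ a ∈ (T : Subgroup G), ∀ x ∈ X, a * x * a⁻¹ ∈ X) : X ≤ coreOf t := by
  haveI := Transfer.pPrimeCore_normal 2 (cent t)
  obtain ⟨hn, hC, hcard⟩ := S.quotient_facts T ht ht1
  set π := QuotientGroup.mk' (Cfsg.oddCore (cent t)) with hπ
  set Tb := ((T : Subgroup G).subgroupOf (cent t)).map π with hTb
  intro x hx
  refine ⟨⟨x, hX hx⟩, ?_, rfl⟩
  rw [SetLike.mem_coe, ← QuotientGroup.eq_one_iff]
  change π ⟨x, hX hx⟩ = 1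
  set Xb := (X.subgroupOf (cent t)).map π with hXb
  have hXodd : Odd (Nat.card Xb) := Odd.of_dvd_nat (by
    rw [Nat.card_congr (Subgroup.subgroupOfEquivOfLe hX).toEquiv]; exact hodd)
    (Subgroup.card_map_dvd _ _)
  obtain ⟨k, hk⟩ : ∃ k, Nat.card (T : Subgroup G) = 2 ^ k := by
    haveI := Fact.mk Nat.prime_two
    exact T.isPGroup'.exists_card_eq
  have hco : (Nat.card Tb).Coprime (Nat.card Xb) := by
    rw [hcard, hk]; exact (Nat.coprime_two_left.2 hXodd).pow_left k
  have hmem : π ⟨x, hX hx⟩ ∈ Xb := ⟨⟨x, hX hx⟩, Subgroup.mem_subgroupOf.2 hx, rfl⟩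
  have hcomm : π ⟨x, hX hx⟩ ∈ Tb := by
    refine hC (Subgroup.mem_centralizer_iff.2 ?_)
    rintro _ ⟨a, ha, rfl⟩
    have ha' : (a : G) ∈ (T : Subgroup G) := Subgroup.mem_subgroupOf.1 ha
    have h1 : π a * π ⟨x, hX hx⟩ * (π a)⁻¹ * (π ⟨x, hX hx⟩)⁻¹ ∈ Xb :=
      mul_mem ⟨a * ⟨x, hX hx⟩ * a⁻¹, Subgroup.mem_subgroupOf.2 (hnorm _ ha' x hx),
        by rw [map_mul, map_mul, map_inv]⟩ (inv_mem hmem)
    have h2 : π a * π ⟨x, hX hx⟩ * (π a)⁻¹ * (π ⟨x, hX hx⟩)⁻¹ ∈ Tb := by
      have ha2 : π a ∈ Tb := ⟨a, ha, rfl⟩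
      rw [show π a * π ⟨x, hX hx⟩ * (π a)⁻¹ * (π ⟨x, hX hx⟩)⁻¹ =
        π a * (π ⟨x, hX hx⟩ * (π a)⁻¹ * (π ⟨x, hX hx⟩)⁻¹) by group]
      exact mul_mem ha2 (hn.conj_mem _ (inv_mem ha2) _)
    have h3 : π a * π ⟨x, hX hx⟩ * (π a)⁻¹ * (π ⟨x, hX hx⟩)⁻¹ = 1 :=
      orderOf_eq_one_iff.1 (Nat.eq_one_of_dvd_coprimes hco
        (Subgroup.orderOf_dvd_natCard _ h2) (Subgroup.orderOf_dvd_natCard _ h1))
    calc π a * π ⟨x, hX hx⟩
        = (π a * π ⟨x, hX hx⟩ * (π a)⁻¹ * (π ⟨x, hX hx⟩)⁻¹) * π ⟨x, hX hx⟩ * π a := by group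
      _ = π ⟨x, hX hx⟩ * π a := by rw [h3, one_mul]
  exact orderOf_eq_one_iff.1 (Nat.eq_one_of_dvd_coprimes hco
    (Subgroup.orderOf_dvd_natCard _ hcomm) (Subgroup.orderOf_dvd_natCard _ hmem))

/-- Every element of `C(t)` is a core element times an element normalising `T`. -/
theorem exists_core_mul (T : Sylow 2 G) {t : G} (ht : t ∈ (T : Subgroup G)) (ht1 : t ≠ 1) {c : G}
    (hc : c ∈ cent t) : ∃ a ∈ coreOf t, ∃ n ∈ cent t,
      n ∈ Subgroup.normalizer ((T : Subgroup G) : Set G) ∧ c = a * n := by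
  haveI := Fact.mk Nat.prime_two
  haveI := Transfer.pPrimeCore_normal 2 (cent t)
  obtain ⟨hn, -, -⟩ := S.quotient_facts T ht ht1
  have hle := S.sylow_le_cent T ht
  set π := QuotientGroup.mk' (Cfsg.oddCore (cent t)) with hπ
  haveI : (((T : Subgroup G).subgroupOf (cent t)).map π).Normal := hn
  set K := (((T : Subgroup G).subgroupOf (cent t)).map π).comap π with hK
  haveI : K.Normal := Subgroup.Normal.comap hn π
  have hTK : ((T.subtype hle : Sylow 2 (cent t)) : Subgroup (cent t)) ≤ K := by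
    rw [Sylow.coe_subtype]
    exact Subgroup.le_comap_map _ _
  have htop := Sylow.normalizer_sup_eq_top' (T.subtype hle) hTK
  have hKeq : K = (T : Subgroup G).subgroupOf (cent t) ⊔ Cfsg.oddCore (cent t) := by
    rw [hK, Subgroup.comap_map_eq, QuotientGroup.ker_mk']
  have hmem : (⟨c, hc⟩ : cent t) ∈ Cfsg.oddCore (cent t) ⊔
      Subgroup.normalizer ((T.subtype hle : Subgroup (cent t)) : Set (cent t)) := by
    have h := Subgroup.mem_top (⟨c, hc⟩ : cent t)
    rw [← htop, hKeq] at h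
    refine SetLike.le_def.1 (sup_le le_sup_right (sup_le (le_trans ?_ le_sup_right) le_sup_left)) h
    rw [← Sylow.coe_subtype (h := hle)]
    exact Subgroup.le_normalizer
  rw [Subgroup.mem_sup_of_normal_left] at hmem
  obtain ⟨a, ha, n, hn', e⟩ := hmem
  refine ⟨a, ⟨a, ha, rfl⟩, n, n.2, Subgroup.mem_normalizer_iff.2 fun x => ?_, congrArg Subtype.val e.symm⟩
  rw [Sylow.coe_subtype, Subgroup.mem_normalizer_iff] at hn'
  constructor
  · intro hx
    have := (hn' ⟨x, hle hx⟩).1 (Subgroup.mem_subgroupOf.2 hx)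
    exact Subgroup.mem_subgroupOf.1 this
  · intro hx
    have hxC : x ∈ cent t := by
      have := mul_mem (mul_mem (inv_mem n.2) (hle hx)) n.2
      simpa [mul_assoc] using this
    exact Subgroup.mem_subgroupOf.1 ((hn' ⟨x, hxC⟩).2 (Subgroup.mem_subgroupOf.2 hx))

end Spec

end CfsgLib.AutOrbits
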