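import Cfsg.Agent.Lib.AutOrbits.Transitive
import Cfsg.Agent.Lib.CIT.PSLCond

/-!
# The automorphism group induced on `T`
-/

set_option autoImplicit false
set_option linter.style.haveILetI false

namespace CfsgLib.AutOrbits

open Subgroup
open scoped commutatorElement

variable {G : Type*} [Group G] [Finite G]

/-- The automorphisms in `weyl T` fixing `a`. -/
noncomputable def fixer (T : Sylow 2 G) (a : (T : Subgroup G)) : Subgroup (weyl T) :=
  (MulAction.stabilizer (MulAut (T : Subgroup G)) a).subgroupOf (weyl T)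

theorem mem_fixer {T : Sylow 2 G} {a : (T : Subgroup G)} {ω : weyl T} :
    ω ∈ fixer T a ↔ (ω : MulAut (T : Subgroup G)) a = a := Iff.rfl

namespace Spec

variable {p q : ℕ} (S : Spec G p q)
include S

theorem card_eq_mul_fixer [IsSimpleGroup G] (T : Sylow 2 G) {a : (T : Subgroup G)} (ha : a ≠ 1) :
    Nat.card (weyl T) = (Nat.card (T : Subgroup G) - 1) * Nat.card (fixer T a) := by
  classical
  letI : MulAction (weyl T) {x : (T : Subgroup G) // x ≠ 1} :=
    { smul := fun ω x => ⟨(ω : MulAut (T : Subgroup G)) x.1, fun h => x.2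
        ((ω : MulAut (T : Subgroup G)).injective (by rw [h, map_one]))⟩
      one_smul := fun x => Subtype.ext rfl
      mul_smul := fun ω ω' x => Subtype.ext rfl }
  haveI : MulAction.IsPretransitive (weyl T) {x : (T : Subgroup G) // x ≠ 1} :=
    ⟨fun x y => (S.weyl_transitive T x.2 y.2).imp fun ω h => Subtype.ext h⟩
  have hst : MulAction.stabilizer (weyl T) (⟨a, ha⟩ : {x : (T : Subgroup G) // x ≠ 1}) = fixer T a := by
    ext ω
    rw [MulAction.mem_stabilizer_iff, mem_fixer]
    exact ⟨fun h => congrArg Subtype.val h, fun h => Subtype.ext h⟩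
  have h := MulAction.index_stabilizer_of_transitive (weyl T)
    (⟨a, ha⟩ : {x : (T : Subgroup G) // x ≠ 1})
  rw [hst] at h
  haveI := Fintype.ofFinite (T : Subgroup G)
  rw [← Subgroup.card_mul_index (fixer T a), h, mul_comm, Nat.card_eq_fintype_card
    (α := {x : (T : Subgroup G) // x ≠ 1}), Fintype.card_subtype_compl, Fintype.card_subtype_eq,
    ← Nat.card_eq_fintype_card]

theorem weyl_order (T : Sylow 2 G) (ω : weyl T) :
    ω = 1 ∨ orderOf ω = p ∨ orderOf ω = q := by
  obtain ⟨n, hn⟩ := ω.2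
  by_cases h : ω = 1
  · exact Or.inl h
  refine Or.inr ?_
  have h1 : orderOf ω ∣ orderOf (n : G) := by
    rw [← Subgroup.orderOf_coe, ← hn, Subgroup.orderOf_coe]
    exact orderOf_map_dvd _ _
  have hodd : Odd (orderOf ω) := (S.odd_weyl T).of_dvd_nat (orderOf_dvd_natCard ω)
  have hne : orderOf ω ≠ 1 := fun e => h (orderOf_eq_one_iff.1 e)
  rcases S.ord (n : G) with e | e | e | e | e
  · rw [e, orderOf_one, Nat.dvd_one] at h1; exact absurd h1 hne
  · rw [e] at h1
    exact absurd (Nat.eq_one_of_dvd_coprimes (Nat.coprime_two_right.2 hodd) dvd_rfl h1) hne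
  · rw [e] at h1; exact Or.inl ((Nat.dvd_prime S.hp).1 h1 |>.resolve_left hne)
  · rw [e] at h1; exact Or.inr ((Nat.dvd_prime S.hq).1 h1 |>.resolve_left hne)
  · rw [e] at h1
    exact Or.inl ((Nat.dvd_prime S.hp).1 ((Nat.coprime_two_right.2 hodd).dvd_of_dvd_mul_left h1)
      |>.resolve_left hne)

theorem lift_q (T : Sylow 2 G) {ω : weyl T} (hω : orderOf ω = q) :
    ∃ n : Subgroup.normalizer ((T : Subgroup G) : Set G),
      phi T n = ω ∧ orderOf (n : G) = q := by
  obtain ⟨n, hn⟩ := ω.2
  refine ⟨n, hn, S.eq_q_of_dvd ?_⟩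
  rw [← hω, ← Subgroup.orderOf_coe, ← hn, Subgroup.orderOf_coe]
  exact orderOf_map_dvd _ _

/-- An automorphism of order `q` fixes no involution. -/
theorem fpf_q (T : Sylow 2 G) {ω : weyl T} (hω : orderOf ω = q) (a : (T : Subgroup G))
    (ha : (ω : MulAut (T : Subgroup G)) a = a) : a = 1 := by
  by_contra h
  obtain ⟨n, hn, ho⟩ := S.lift_q T hω
  rw [← hn, phi_fix_iff] at ha
  exact S.hq2 (S.not_commute_q ho Nat.prime_two
    (S.orderOf_mem_sylow T a.2 fun e => h (Subtype.ext e)) (mem_cent.1 ha).symm).symm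

theorem weyl_not_commute (T : Sylow 2 G) {ω ω' : weyl T} (hω : orderOf ω = q)
    (hω' : orderOf ω' = p) : ¬ Commute ω ω' := by
  intro hc
  have h := hc.orderOf_mul_eq_mul_orderOf_of_coprime
    (by rw [hω, hω']; exact (Nat.coprime_primes S.hq S.hp).2 (Ne.symm S.hpq))
  rw [hω, hω'] at h
  rcases S.weyl_order T (ω * ω') with e | e | e
  · rw [e, orderOf_one] at h
    exact S.hq.ne_one (Nat.eq_one_of_mul_eq_one_right h.symm)
  · rw [e] at h; exact S.hq.ne_one ((mul_eq_right₀ S.hp.ne_zero).1 h.symm)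
  · rw [e] at h; exact S.hp.ne_one ((mul_eq_left₀ S.hq.ne_zero).1 h.symm)

theorem q_dvd_weyl [IsSimpleGroup G] (T : Sylow 2 G) {a : (T : Subgroup G)} (ha : a ≠ 1)
    (hfix : fixer T a ≠ ⊥) : q ∣ Nat.card (weyl T) := by
  classical
  haveI := Fact.mk S.hp
  by_contra hq
  have hp : IsPGroup p (weyl T) := by
    refine IsPGroup.iff_orderOf.2 fun ω => ?_
    rcases S.weyl_order T ω with e | e | e
    · exact ⟨0, by rw [e, orderOf_one, pow_zero]⟩
    · exact ⟨1, by rw [e, pow_one]⟩
    · exact absurd (e ▸ orderOf_dvd_natCard ω) hq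
  obtain ⟨k, hk⟩ := hp.exists_card_eq
  have hmul := S.card_eq_mul_fixer T ha
  rw [hk] at hmul
  obtain ⟨j, -, hj⟩ := (Nat.dvd_prime_pow S.hp).1 ⟨_, hmul⟩
  haveI := Fact.mk Nat.prime_two
  obtain ⟨d, hd⟩ := T.isPGroup'.exists_card_eq
  have h8 := S.eight_le_sylow T
  have hj1 : j = 1 := by
    rw [hd] at hj
    refine CIT.prime_pow_pred_two S.hp hj (Nat.pos_of_ne_zero fun e => ?_)
    rw [e, pow_zero, ← hd] at hj
    omega
  rw [hj1, pow_one] at hj
  let ψ : weyl T →* Equiv.Perm {x : (T : Subgroup G) // x ≠ 1} :=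
    { toFun := fun ω => (ω : MulAut (T : Subgroup G)).toEquiv.subtypeEquiv fun x => by simp
      map_one' := by ext x; rfl
      map_mul' := fun ω ω' => by ext x; rfl }
  have hψ : Function.Injective ψ := fun ω ω' h => by
    apply Subtype.ext
    ext x
    by_cases hx : x = 1
    · simp [hx]
    · exact congrArg Subtype.val (congrArg Subtype.val (Equiv.congr_fun h ⟨x, hx⟩))
  have hle : Nat.card (weyl T) ∣ p.factorial := by
    haveI := Fintype.ofFinite (T : Subgroup G)
    have := Subgroup.card_subgroup_dvd_card ψ.range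
    have hX : Nat.card {x : (T : Subgroup G) // x ≠ 1} = p := by
      rw [Nat.card_eq_fintype_card, Fintype.card_subtype_compl, Fintype.card_subtype_eq,
        ← Nat.card_eq_fintype_card, hj]
    rw [← Nat.card_congr (MonoidHom.ofInjective hψ).toEquiv, Nat.card_perm, hX] at this
    exact this
  rw [hk] at hle
  have hk1 : k ≤ 1 := by
    by_contra hk2
    have h2 : p * p ∣ p.factorial := (pow_two p ▸ pow_dvd_pow p (by omega : 2 ≤ k)).trans hle
    rw [← Nat.mul_factorial_pred S.hp.ne_zero] at h2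
    have h3 := (Nat.Prime.dvd_factorial S.hp).1 (Nat.dvd_of_mul_dvd_mul_left S.hp.pos h2)
    have := S.two_lt_p
    omega
  rw [hj] at hmul
  have h1 : p * Nat.card (fixer T a) ≤ p ^ 1 := hmul ▸ Nat.pow_le_pow_right S.hp.pos hk1
  rw [pow_one] at h1
  refine hfix (Subgroup.card_eq_one.1 ?_)
  have : 0 < Nat.card (fixer T a) := Nat.card_pos
  have := Nat.le_of_mul_le_mul_left (h1.trans_eq (mul_one p).symm) S.hp.pos
  omega

/-- A commutative exponent `q` subgroup of `weyl T` is cyclic. -/
theorem mem_zpowers_of_commute [IsSimpleGroup G] (T : Sylow 2 G) {y z : weyl T} (hy : orderOf y = q)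
    (hz : orderOf z = q) (hc : Commute z y) : z ∈ Subgroup.zpowers y := by
  by_contra hzy
  letI : CommGroup (T : Subgroup G) :=
    { (inferInstance : Group (T : Subgroup G)) with
      mul_comm := fun a b => Subtype.ext (S.sylow_comm T a.2 b.2) }
  have hline : ∀ i < q, orderOf (z * y ^ i) = q := fun i _ => by
    haveI := Fact.mk S.hq
    refine orderOf_eq_prime ?_ fun h => hzy ?_
    · rw [(hc.pow_right i).mul_pow, ← hz, pow_orderOf_eq_one, one_mul, hz, ← pow_mul, mul_comm,
        pow_mul, ← hy, pow_orderOf_eq_one, one_pow]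
    · rw [mul_eq_one_iff_eq_inv.1 h]
      exact inv_mem (pow_mem (Subgroup.mem_zpowers y) i)
  have h8 := S.eight_le_sylow T
  haveI : Nontrivial (T : Subgroup G) := (Subgroup.nontrivial_iff_ne_bot _).2 (S.sylow_ne_bot T)
  obtain ⟨v, hv⟩ := exists_ne (1 : (T : Subgroup G))
  have h := pow_eq_one_of_lines S.hq (a := (z : MulAut (T : Subgroup G)))
    (b := (y : MulAut (T : Subgroup G))) (hc.map (weyl T).subtype)
    (by rw [← Subgroup.coe_pow, ← hz, pow_orderOf_eq_one]; rfl)
    (by rw [← Subgroup.coe_pow, ← hy, pow_orderOf_eq_one]; rfl)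
    (fun w hw => S.fpf_q T hy w hw)
    (fun i hi w hw => S.fpf_q T (hline i hi) w (by rw [Subgroup.coe_mul, Subgroup.coe_pow]; exact hw)) v
  have h2 : v ^ 2 = 1 := by rw [pow_two]; exact Subtype.ext (S.sylow_sq T v.2)
  exact hv (orderOf_eq_one_iff.1 (Nat.eq_one_of_dvd_coprimes
    ((Nat.coprime_primes S.hq Nat.prime_two).2 S.hq2) (orderOf_dvd_of_pow_eq_one h)
    (orderOf_dvd_of_pow_eq_one h2)))

/-- The group induced on `T` has a self-centralizing normal subgroup of order `q`. -/
theorem exists_normal_q [IsSimpleGroup G] (T : Sylow 2 G) {a : (T : Subgroup G)} (ha : a ≠ 1)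
    (hfix : fixer T a ≠ ⊥) :
    ∃ y : weyl T, orderOf y = q ∧ (Subgroup.zpowers y).Normal ∧
      ∀ z : weyl T, Commute z y → z ∈ Subgroup.zpowers y := by
  classical
  haveI := Fact.mk S.hp
  haveI := Fact.mk S.hq
  have hsolv : Group.IsSolvable (weyl T) := by
    refine Cfsg.Agent.S0144.result p q ((Nat.card (weyl T)).factorization p)
      ((Nat.card (weyl T)).factorization q) S.hp S.hq ?_
    conv_lhs => rw [← Nat.prod_factorization_pow_eq_self (Nat.card_pos (α := weyl T)).ne',
      Nat.prod_factorization_eq_prod_primeFactors]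
    rw [Finset.prod_subset (s₂ := ({p, q} : Finset ℕ)) ?_ ?_, Finset.prod_pair S.hpq]
    · intro r hr
      haveI := Fact.mk (Nat.prime_of_mem_primeFactors hr)
      obtain ⟨c, hc⟩ := exists_prime_orderOf_dvd_card' r (Nat.dvd_of_mem_primeFactors hr)
      rcases S.weyl_order T c with e | e | e
      · rw [e, orderOf_one] at hc; exact absurd hc.symm (Nat.prime_of_mem_primeFactors hr).ne_one
      · simp [← hc, e]
      · simp [← hc, e]
    · intro r hr hnr
      by_cases h0 : (Nat.card (weyl T)).factorization r = 0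
      · rw [h0, pow_zero]
      · exact absurd (Nat.mem_primeFactors.2 ⟨Nat.prime_of_mem_primeFactors
          (by simpa [← Nat.support_factorization] using h0), Nat.dvd_of_factorization_pos h0,
          Nat.card_pos.ne'⟩) hnr
  -- a normal abelian subgroup of prime exponent
  obtain ⟨A, hAn, hA1, hAc⟩ : ∃ A : Subgroup (weyl T), A.Normal ∧ A ≠ ⊥ ∧
      ∀ x ∈ A, ∀ z ∈ A, x * z = z * x := by
    obtain ⟨m, hm⟩ := hsolv.1
    have hne : derivedSeries (weyl T) 0 ≠ ⊥ := by
      rw [derivedSeries_zero]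
      haveI : Nontrivial (weyl T) := (Subgroup.nontrivial_iff_ne_bot _).2 (S.weyl_ne_bot T)
      exact top_ne_bot
    have : ∃ i, derivedSeries (weyl T) i ≠ ⊥ ∧ derivedSeries (weyl T) (i + 1) = ⊥ := by
      by_contra hno
      push Not at hno
      exact Nat.rec hne (fun i hi => hno i hi) m hm
    obtain ⟨i, hi1, hi2⟩ := this
    refine ⟨_, derivedSeries_normal _ i, hi1, fun x hx z hz => ?_⟩
    have h : ⁅x, z⁆ ∈ derivedSeries (weyl T) (i + 1) := by
      rw [derivedSeries_succ]; exact Subgroup.commutator_mem_commutator hx hz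
    rw [hi2, Subgroup.mem_bot] at h
    exact commutatorElement_eq_one_iff_mul_comm.1 h
  obtain ⟨c, hcA, hc1⟩ : ∃ c ∈ A, c ≠ 1 := by
    by_contra hno
    push Not at hno
    exact hA1 ((Subgroup.eq_bot_iff_forall A).2 hno)
  let R : ℕ → Subgroup (weyl T) := fun r =>
    { carrier := {x | x ∈ A ∧ x ^ r = 1}
      one_mem' := ⟨A.one_mem, one_pow r⟩
      mul_mem' := fun {x z} hx hz => ⟨A.mul_mem hx.1 hz.1, by
        rw [(show Commute x z from hAc x hx.1 z hz.1).mul_pow, hx.2, hz.2, one_mul]⟩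
      inv_mem' := fun {x} hx => ⟨A.inv_mem hx.1, by rw [inv_pow, hx.2, inv_one]⟩ }
  have hRn : ∀ r, (R r).Normal := fun r => ⟨fun x hx g =>
    ⟨hAn.conj_mem x hx.1 g, by rw [conj_pow, hx.2, mul_one, mul_inv_cancel]⟩⟩
  obtain ⟨b, hb⟩ := exists_prime_orderOf_dvd_card' q (S.q_dvd_weyl T ha hfix)
  have hcq : orderOf c = q := by
    rcases S.weyl_order T c with e | e | e
    · exact absurd e hc1
    swap
    · exact e
    exfalso
    -- `O_p` would act without fixed points, contradicting the Frobenius identity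
    letI : CommGroup (T : Subgroup G) :=
      { (inferInstance : Group (T : Subgroup G)) with
        mul_comm := fun a b => Subtype.ext (S.sylow_comm T a.2 b.2) }
    set P := (R p).map (weyl T).subtype with hP
    have hcP : c ∈ R p := ⟨hcA, by rw [← e, pow_orderOf_eq_one]⟩
    have hPord : ∀ x ∈ R p, x = 1 ∨ orderOf x = p := fun x hx => by
      by_cases hx1 : x = 1
      · exact Or.inl hx1
      · exact Or.inr (orderOf_eq_prime hx.2 hx1)
    have hfixP : ∀ v : (T : Subgroup G), (∀ x ∈ P, x v = v) → v = 1 := by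
      intro v hv
      by_contra hv1
      have hone : ∀ w : (T : Subgroup G), (c : MulAut (T : Subgroup G)) w = w := by
        intro w
        by_cases hw : w = 1
        · rw [hw, map_one]
        obtain ⟨ω, hω⟩ := S.weyl_transitive T hv1 hw
        have hmem : ω⁻¹ * c * ω ∈ R p := by
          simpa using (hRn p).conj_mem c hcP ω⁻¹
        have h1 := hv _ ⟨_, hmem, rfl⟩
        simp only [Subgroup.coe_subtype, Subgroup.coe_mul, Subgroup.coe_inv, MulAut.mul_apply] at h1
        rw [← hω]
        apply (ω : MulAut (T : Subgroup G))⁻¹.injective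
        rw [h1, MulAut.inv_apply_self]
      exact hc1 (Subtype.ext (MulEquiv.ext hone))
    have hfr := fun v => pow_eq_one_of_frobenius (P := P) (y := (b : MulAut (T : Subgroup G))) S.hq
      (by rw [← Subgroup.coe_pow, ← hb, pow_orderOf_eq_one]; rfl) (fun w hw => S.fpf_q T hb w hw)
      hfixP
      (fun x hx => by
        obtain ⟨x', hx', rfl⟩ := hx
        exact ⟨_, (hRn p).conj_mem x' hx' b, rfl⟩)
      (fun j hj0 hj x hx hcm => by
        obtain ⟨x', hx', rfl⟩ := hx
        rcases hPord x' hx' with h1 | h1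
        · rw [h1, map_one]
        exfalso
        have hbj : orderOf (b ^ j) = q := by
          refine orderOf_eq_prime (by rw [← pow_mul, mul_comm, pow_mul, ← hb, pow_orderOf_eq_one, one_pow]) ?_
          intro h
          have := Nat.le_of_dvd (Nat.pos_of_ne_zero hj0) (hb ▸ orderOf_dvd_of_pow_eq_one h)
          omega
        refine S.weyl_not_commute T hbj h1 ?_
        exact Subtype.ext (by simpa using hcm.symm.eq)) v
    haveI : Nontrivial (T : Subgroup G) := (Subgroup.nontrivial_iff_ne_bot _).2 (S.sylow_ne_bot T)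
    obtain ⟨v, hv⟩ := exists_ne (1 : (T : Subgroup G))
    have hodd : Odd (Nat.card P) := by
      rw [hP, Subgroup.card_map_of_injective (weyl T).subtype_injective]
      exact (S.odd_weyl T).of_dvd_nat (Subgroup.card_subgroup_dvd_card _)
    exact hv (orderOf_eq_one_iff.1 (Nat.eq_one_of_dvd_coprimes (Nat.coprime_two_right.2 hodd)
      (orderOf_dvd_of_pow_eq_one (hfr v))
      (orderOf_dvd_of_pow_eq_one (by rw [pow_two]; exact Subtype.ext (S.sylow_sq T v.2)))))
  have hRq : R q = Subgroup.zpowers c := by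
    refine le_antisymm (fun x hx => ?_) (Subgroup.zpowers_le.2 ⟨hcA, by rw [← hcq, pow_orderOf_eq_one]⟩)
    by_cases hx1 : x = 1
    · rw [hx1]; exact one_mem _
    exact S.mem_zpowers_of_commute T hcq (orderOf_eq_prime hx.2 hx1) (hAc x hx.1 c hcA)
  refine ⟨c, hcq, hRq ▸ hRn q, fun z hz => ?_⟩
  rcases S.weyl_order T z with e | e | e
  · rw [e]; exact one_mem _
  · exact absurd hz.symm (S.weyl_not_commute T hcq e)
  · exact S.mem_zpowers_of_commute T hcq e hz

/-- The orders involved when `fixer` is non-trivial. -/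
theorem weyl_numbers [IsSimpleGroup G] (T : Sylow 2 G) {a : (T : Subgroup G)} (ha : a ≠ 1)
    (hfix : fixer T a ≠ ⊥) :
    Nat.card (fixer T a) = p ∧ ∃ Q : Sylow q G,
      p ∣ Nat.card (Subgroup.normalizer ((Q : Subgroup G) : Set G)) := by
  classical
  haveI := Fact.mk S.hp
  haveI := Fact.mk S.hq
  obtain ⟨y, hy, hyn, hyc⟩ := S.exists_normal_q T ha hfix
  haveI := hyn
  have hR : Nat.card (Subgroup.zpowers y) = q := by rw [Nat.card_zpowers, hy]
  let f : weyl T →* MulAut (Subgroup.zpowers y) := MulAut.conjNormal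
  have hker : f.ker ≤ Subgroup.zpowers y := by
    intro z hz
    refine hyc z ?_
    have h0 : f z ⟨y, Subgroup.mem_zpowers y⟩ = ⟨y, Subgroup.mem_zpowers y⟩ := by
      rw [MonoidHom.mem_ker.1 hz]; rfl
    have h : z * y * z⁻¹ = y := congrArg Subtype.val h0
    exact mul_inv_eq_iff_eq_mul.1 h
  have hcyc : IsCyclic f.range := by
    haveI : IsCyclic (ZMod (Nat.card (Subgroup.zpowers y)))ˣ := by rw [hR]; infer_instance
    haveI : IsCyclic (MulAut (Subgroup.zpowers y)) :=
      isCyclic_of_surjective (IsCyclic.mulAutMulEquiv (Subgroup.zpowers y)).symm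
        (IsCyclic.mulAutMulEquiv (Subgroup.zpowers y)).symm.surjective
    exact Subgroup.isCyclic f.range
  obtain ⟨γ, hγ⟩ := IsCyclic.exists_ofOrder_eq_natCard (α := f.range)
  have hrange : Nat.card f.range ∣ p := by
    obtain ⟨z, hz⟩ := γ.2
    have h1 : orderOf γ ∣ orderOf z := by
      rw [← Subgroup.orderOf_coe, ← hz]; exact orderOf_map_dvd f z
    rw [← hγ]
    rcases S.weyl_order T z with e | e | e
    · rw [e, orderOf_one] at h1; exact h1.trans (one_dvd p)
    · rw [e] at h1; exact h1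
    · rw [e] at h1
      rcases (Nat.dvd_prime S.hq).1 h1 with h | h
      · rw [h]; exact one_dvd p
      exfalso
      have h2 : orderOf γ ∣ Nat.card (MulAut (Subgroup.zpowers y)) := by
        rw [← Subgroup.orderOf_coe]; exact orderOf_dvd_natCard _
      haveI := NeZero.mk (n := Nat.card (Subgroup.zpowers y)) (by rw [hR]; exact S.hq.ne_zero)
      rw [h, Nat.card_congr (IsCyclic.mulAutMulEquiv (Subgroup.zpowers y)).toEquiv,
        Nat.card_eq_fintype_card, ZMod.card_units_eq_totient, hR, Nat.totient_prime S.hq] at h2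
      have := S.two_lt_q
      have := Nat.le_of_dvd (by omega) h2
      omega
  have hW : Nat.card (weyl T) ∣ q * p := by
    rw [← Subgroup.card_mul_index f.ker, Subgroup.index_ker]
    exact mul_dvd_mul (hR ▸ Subgroup.card_dvd_of_le hker) hrange
  have hqW := S.q_dvd_weyl T ha hfix
  have hmul := S.card_eq_mul_fixer T ha
  set st := Nat.card (fixer T a) with hst
  have hst1 : st ≠ 1 := fun h => hfix (Subgroup.card_eq_one.1 h)
  have hstq : ¬ q ∣ st := by
    intro h
    obtain ⟨z, hz⟩ := exists_prime_orderOf_dvd_card' q h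
    rw [← Subgroup.orderOf_coe] at hz
    exact ha (S.fpf_q T hz a (mem_fixer.1 z.2))
  have hstqp : st ∣ q * p := (Dvd.intro_left _ hmul.symm).trans hW
  have hstp : st = p := ((Nat.dvd_prime S.hp).1 (((Nat.coprime_comm.1
    ((Nat.Prime.coprime_iff_not_dvd S.hq).2 hstq))).dvd_of_dvd_mul_left hstqp)).resolve_left hst1
  refine ⟨hstp, ?_⟩
  -- a `p`-element normalising a subgroup of order `q`
  obtain ⟨n0, hn0, ho⟩ := S.lift_q T hy
  obtain ⟨g, hg⟩ := exists_prime_orderOf_dvd_card' (G := fixer T a) p (by rw [← hst, hstp])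
  rw [← Subgroup.orderOf_coe] at hg
  set φ := (phi T).rangeRestrict with hφ
  set H := (Subgroup.zpowers y).comap φ with hH
  haveI : H.Normal := hyn.comap φ
  have hφn0 : φ n0 = y := Subtype.ext hn0
  have hn0H : n0 ∈ H := by rw [hH, Subgroup.mem_comap, hφn0]; exact Subgroup.mem_zpowers y
  have ho' : orderOf n0 = q := by rw [← Subgroup.orderOf_coe, ho]
  have hkq : ¬ q ∣ Nat.card φ.ker := by
    intro h
    obtain ⟨z, hz⟩ := exists_prime_orderOf_dvd_card' q h
    have hz1 : phi T z.1 = 1 := congrArg Subtype.val (MonoidHom.mem_ker.1 z.2)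
    have hzo : orderOf ((z.1 : Subgroup.normalizer ((T : Subgroup G) : Set G)) : G) = q := by
      rw [Subgroup.orderOf_coe, Subgroup.orderOf_coe, hz]
    exact S.hq2 (S.not_commute_q hzo Nat.prime_two
      (S.orderOf_mem_sylow T a.2 fun e => ha (Subtype.ext e))
      (mem_cent.1 ((phi_eq_one_iff T z.1).1 hz1 a)).symm).symm
  have hidx : ¬ q ∣ (Subgroup.zpowers n0).relIndex H := by
    intro hd
    have hle : Subgroup.zpowers n0 ≤ H := Subgroup.zpowers_le.2 hn0H
    have h1 := Subgroup.card_mul_index ((Subgroup.zpowers n0).subgroupOf H)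
    rw [Nat.card_congr (Subgroup.subgroupOfEquivOfLe hle).toEquiv, Nat.card_zpowers, ho'] at h1
    have h2 : Nat.card H = Nat.card φ.ker * q := by
      rw [hH, PSolvable.card_comap_of_surjective (phi T).rangeRestrict_surjective, hR, mul_comm]
    rw [h2, mul_comm (Nat.card φ.ker)] at h1
    exact hkq ((Nat.eq_of_mul_eq_mul_left S.hq.pos h1) ▸ hd)
  let P : Sylow q H := (IsPGroup.of_card (p := q) (n := 1) (by
    rw [Nat.card_congr (Subgroup.subgroupOfEquivOfLe (Subgroup.zpowers_le.2 hn0H)).toEquiv,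
      Nat.card_zpowers, ho', pow_one])).toSylow hidx
  have htop := Sylow.normalizer_sup_eq_top P
  rw [show ((P : Subgroup H)).map H.subtype = Subgroup.zpowers n0 from
    Subgroup.map_subgroupOf_eq_of_le (Subgroup.zpowers_le.2 hn0H)] at htop
  obtain ⟨m, hm⟩ := (g.1 : weyl T).2
  have hmem := Subgroup.mem_top m
  rw [← htop, Subgroup.mem_sup_of_normal_right] at hmem
  obtain ⟨m', hm', k, hk, e⟩ := hmem
  have hφm : φ m = (g.1 : weyl T) := Subtype.ext hm
  have hgY : φ m' ∉ Subgroup.zpowers y := fun h => by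
    have : (g.1 : weyl T) ∈ Subgroup.zpowers y := by
      rw [← hφm, ← e, map_mul]; exact mul_mem h hk
    have h1 := Subgroup.orderOf_dvd_natCard _ this
    rw [hg, hR] at h1
    exact S.hpq ((Nat.prime_dvd_prime_iff_eq S.hp S.hq).1 h1)
  have hm'o : orderOf (φ m') = p := by
    rcases S.weyl_order T (φ m') with h | h | h
    · exact absurd (h ▸ one_mem _) hgY
    · exact h
    · exfalso
      apply hgY
      -- the Sylow `q`-subgroup of `weyl T` is normal
      have hsup : IsPGroup q (Subgroup.zpowers (φ m') ⊔ Subgroup.zpowers y : Subgroup (weyl T)) :=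
        IsPGroup.to_sup_of_normal_right
          (IsPGroup.of_card (n := 1) (by rw [Nat.card_zpowers, h, pow_one]))
          (IsPGroup.of_card (n := 1) (by rw [Nat.card_zpowers, hy, pow_one]))
      obtain ⟨i, hi⟩ := hsup.exists_card_eq
      have hi1 : q ^ i ∣ q * p := hi ▸ (Subgroup.card_subgroup_dvd_card _).trans hW
      have hi2 : i ≤ 1 := by
        by_contra hlt
        have h3 : q * q ∣ q * p := (pow_two q ▸ pow_dvd_pow q (show 2 ≤ i by omega)).trans hi1
        exact S.hpq ((Nat.prime_dvd_prime_iff_eq S.hq S.hp).1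
          (Nat.dvd_of_mul_dvd_mul_left S.hq.pos h3)).symm
      have heq : Subgroup.zpowers y = Subgroup.zpowers (φ m') ⊔ Subgroup.zpowers y :=
        Subgroup.eq_of_le_of_card_ge le_sup_right (by
          rw [hi, hR]; calc q ^ i ≤ q ^ 1 := Nat.pow_le_pow_right S.hq.pos hi2
            _ = q := pow_one q)
      rw [heq]
      exact (le_sup_left : _ ≤ Subgroup.zpowers (φ m') ⊔ Subgroup.zpowers y) (Subgroup.mem_zpowers _)
  obtain ⟨Q, hQ⟩ := S.exists_sylow_eq_cent ho
  refine ⟨Q, ?_⟩
  have hz : (m' : G) ∈ Subgroup.normalizer ((Subgroup.zpowers (n0 : G)) : Set G) := by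
    refine Subgroup.mem_normalizer_iff.2 fun x => ?_
    have hmap : Subgroup.zpowers (n0 : G) = (Subgroup.zpowers n0).map (Subgroup.subtype _) := by
      rw [MonoidHom.map_zpowers]; rfl
    constructor
    · intro hx
      rw [hmap] at hx ⊢
      obtain ⟨x', hx', rfl⟩ := hx
      exact ⟨m' * x' * m'⁻¹, (Subgroup.mem_normalizer_iff.1 hm' x').1 hx', rfl⟩
    · intro hx
      rw [hmap] at hx ⊢
      obtain ⟨x', hx', hxe⟩ := hx
      refine ⟨m'⁻¹ * x' * m', ?_, ?_⟩
      · simpa using (Subgroup.mem_normalizer_iff.1 (inv_mem hm') x').1 hx'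
      · rw [map_mul, map_mul, map_inv, hxe]; simp [mul_assoc]
  have hN : (m' : G) ∈ Subgroup.normalizer ((Q : Subgroup G) : Set G) := by
    refine Subgroup.mem_normalizer_iff.2 fun x => ?_
    rw [hQ, mem_cent, mem_cent]
    have hgen : ∀ (u : G), (u : G) ∈ Subgroup.normalizer ((Subgroup.zpowers (n0 : G)) : Set G) →
        ∀ x : G, x * (n0 : G) = (n0 : G) * x → u * x * u⁻¹ * (n0 : G) = (n0 : G) * (u * x * u⁻¹) := by
      intro u hu x hx
      obtain ⟨i, hi⟩ := (Subgroup.mem_normalizer_iff.1 (inv_mem hu) (n0 : G)).1 (Subgroup.mem_zpowers _)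
      have hc : Commute x ((n0 : G) ^ i) := Commute.zpow_right hx i
      rw [show (n0 : G) ^ i = u⁻¹ * n0 * u from by simpa using hi] at hc
      calc u * x * u⁻¹ * (n0 : G) = u * (x * (u⁻¹ * n0 * u)) * u⁻¹ := by group
        _ = u * ((u⁻¹ * n0 * u) * x) * u⁻¹ := by rw [hc.eq]
        _ = _ := by group
    refine ⟨hgen _ hz x, fun hx => ?_⟩
    have h := hgen _ (inv_mem hz) _ hx
    simpa [mul_assoc] using h
  have hdv : p ∣ orderOf (m' : G) := by
    rw [← hm'o, Subgroup.orderOf_coe]; exact orderOf_map_dvd φ m'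
  exact hdv.trans (Subgroup.orderOf_dvd_natCard _ hN)

end Spec

end CfsgLib.AutOrbits
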